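import Cfsg.Agent.Golay.M22Block
import Cfsg.Agent.Golay.Conj
import Cfsg.Agent.Golay.OctadStab

/-! Orbits of subgroups of the group of the code on the 24 points. -/

set_option autoImplicit false
set_option maxRecDepth 100000
set_option linter.style.haveILetI false

namespace Cfsg.Lib.Classical.MLowIndex

open Cfsg Cfsg.Lib.PermCert Cfsg.Lib.Golay MulAction
open scoped Pointwise

/-- The fixed points. -/
abbrev fixed (g : Equiv.Perm GolayPt) : Finset GolayPt := Cfsg.Lib.Golay.M22Block.fixPts g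

theorem mem_fixed {g : Equiv.Perm GolayPt} {p : GolayPt} : p ∈ fixed g ↔ g p = p := M22Block.mem_fixPts

/-- An element of prime order on an invariant set. -/
theorem set_modEq {q : ℕ} [Fact q.Prime] {a : Equiv.Perm GolayPt} (ha : orderOf a = q) {A : Finset GolayPt}
    (hA : a • A = A) : A.card % q = (A ∩ fixed a).card % q := by
  have hinv : ∀ t, a t ∈ A ↔ t ∈ A := mem_iff_of_smul_eq hA
  have hσ : (a.subtypePerm hinv) ^ q ^ 1 = 1 := by
    rw [pow_one]
    exact Equiv.ext fun t => Subtype.ext (by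
      rw [Equiv.Perm.subtypePerm_pow, Equiv.Perm.subtypePerm_apply]
      simp [← ha, pow_orderOf_eq_one])
  have h1 := (Equiv.Perm.card_compl_support_modEq hσ).symm
  rw [Fintype.card_coe] at h1
  refine h1.trans ?_
  congr 1
  refine Finset.card_bij (fun t _ => (t : GolayPt)) (fun t ht => ?_) (fun t _ t' _ e => Subtype.ext e) fun t ht => ?_
  · rw [Finset.mem_compl, Equiv.Perm.mem_support, not_not] at ht
    exact Finset.mem_inter.mpr ⟨t.2, mem_fixed.mpr (congrArg Subtype.val ht)⟩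
  · obtain ⟨h2, h3⟩ := Finset.mem_inter.mp ht
    refine ⟨⟨t, h2⟩, ?_, rfl⟩
    rw [Finset.mem_compl, Equiv.Perm.mem_support, not_not]
    exact Subtype.ext (mem_fixed.mp h3)

theorem card_golayPt : Fintype.card GolayPt = 24 := by rw [Fintype.card_option, ZMod.card]

/-- Fixed points of elements of prime order five, seven, eleven and twenty-three. -/
theorem card_fixed {q : ℕ} [Fact q.Prime] {x : Equiv.Perm GolayPt} (hx : x ∈ M24) (hq : orderOf x = q)
    {f : ℕ} (h : (q = 5 ∧ f = 4) ∨ (q = 7 ∧ f = 3) ∨ (q = 11 ∧ f = 2) ∨ (q = 23 ∧ f = 1)) :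
    (fixed x).card = f := by
  have hm : 24 % q = (fixed x).card % q := by
    have h1 := set_modEq (A := Finset.univ) hq (Finset.smul_finset_univ (a := x))
    rwa [Finset.card_univ, card_golayPt, Finset.univ_inter] at h1
  have key : 2 ≤ (fixed x).card → (q = 5 ∧ (fixed x).card = 4) ∨ (q = 7 ∧ (fixed x).card = 3) ∨
      (q = 11 ∧ (fixed x).card = 2) ∨ q = 2 ∨ q = 3 := by
    intro h2
    obtain ⟨p, hp, p', hp', hne⟩ := Finset.one_lt_card.mp (show 1 < (fixed x).card by omega)
    obtain ⟨g, hg, hg'⟩ := exists_smul_eq_pair hne (p' := none) (q' := some 0) (by simp)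
    change (g : Equiv.Perm GolayPt) p = none at hg
    change (g : Equiv.Perm GolayPt) p' = some 0 at hg'
    have hy : (g : Equiv.Perm GolayPt) * x * (g : Equiv.Perm GolayPt)⁻¹ ∈ Spor.M22 := by
      refine ⟨⟨M24.mul_mem (M24.mul_mem g.2 hx) (M24.inv_mem g.2), ?_⟩, ?_⟩
      · show ((g : Equiv.Perm GolayPt) * x * (g : Equiv.Perm GolayPt)⁻¹) none = none
        rw [← hg]; simp [mem_fixed.mp hp]
      · show ((g : Equiv.Perm GolayPt) * x * (g : Equiv.Perm GolayPt)⁻¹) (some 0) = some 0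
        rw [← hg']; simp [mem_fixed.mp hp']
    have ho : orderOf ((g : Equiv.Perm GolayPt) * x * (g : Equiv.Perm GolayPt)⁻¹) = q := by
      rw [← hq, ← MulAut.conj_apply]
      exact (MulAut.conj (g : Equiv.Perm GolayPt)).orderOf_eq x
    have hc := M22Block.card_fixPts_conj (g : Equiv.Perm GolayPt) x
    rcases M22Block.card_fixPts_prime hy (Fact.out : q.Prime) ho with e | e | e | e | e <;>
      rw [hc] at e
    · exact Or.inr (Or.inr (Or.inr (Or.inl e.1)))
    · exact Or.inr (Or.inr (Or.inr (Or.inr e.1)))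
    · exact Or.inl e
    · exact Or.inr (Or.inl e)
    · exact Or.inr (Or.inr (Or.inl e))
  rcases h with ⟨rfl, rfl⟩ | ⟨rfl, rfl⟩ | ⟨rfl, rfl⟩ | ⟨rfl, rfl⟩
  · have h4 : 4 ≤ (fixed x).card := by omega
    rcases key (by omega) with e | e | e | e | e <;> omega
  · have h4 : 3 ≤ (fixed x).card := by omega
    rcases key (by omega) with e | e | e | e | e <;> omega
  · have h4 : 2 ≤ (fixed x).card := by omega
    rcases key (by omega) with e | e | e | e | e <;> omega
  · have h4 : 1 ≤ (fixed x).card := by omega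
    by_contra hne
    rcases key (by omega) with e | e | e | e | e <;> omega

/-- The orbit of a subgroup as a finite set. -/
noncomputable def orb (H : Subgroup (Equiv.Perm GolayPt)) (p : GolayPt) : Finset GolayPt :=
  (Set.toFinite (orbit H p)).toFinset

theorem mem_orb {H : Subgroup (Equiv.Perm GolayPt)} {p r : GolayPt} : r ∈ orb H p ↔ ∃ g ∈ H, g p = r := by
  rw [orb, Set.Finite.mem_toFinset, mem_orbit_iff]
  exact ⟨fun ⟨g, hg⟩ => ⟨g, g.2, hg⟩, fun ⟨g, hg, e⟩ => ⟨⟨g, hg⟩, e⟩⟩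

theorem self_mem_orb (H : Subgroup (Equiv.Perm GolayPt)) (p : GolayPt) : p ∈ orb H p :=
  mem_orb.mpr ⟨1, one_mem H, rfl⟩

theorem smul_orb {H : Subgroup (Equiv.Perm GolayPt)} {g : Equiv.Perm GolayPt} (hg : g ∈ H) (p : GolayPt) :
    g • orb H p = orb H p := by
  refine smul_eq_of_mem_imp fun r hr => ?_
  obtain ⟨k, hk, rfl⟩ := mem_orb.mp hr
  exact mem_orb.mpr ⟨g * k, mul_mem hg hk, rfl⟩

theorem orb_mem_of_mem {H : Subgroup (Equiv.Perm GolayPt)} {p r s : GolayPt} (hr : r ∈ orb H p)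
    {g : Equiv.Perm GolayPt} (hg : g ∈ H) (hs : g r = s) : s ∈ orb H p :=
  (mem_iff_of_smul_eq (smul_orb hg p) r).mpr hr |> fun h => hs ▸ h

theorem card_orb_dvd (H : Subgroup (Equiv.Perm GolayPt)) (p : GolayPt) : (orb H p).card ∣ Nat.card H := by
  rw [orb, ← Set.ncard_eq_toFinset_card, ← MulAction.index_stabilizer]
  exact Subgroup.index_dvd_card _

/-- Reachable indices. -/
def reach (gens : List PP) : ℕ → List ℕ → List ℕ
  | 0, l => l
  | k + 1, l => reach gens k (l ++ gens.flatMap fun s => l.map (ap s.1)).dedup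

theorem reach_sound {gens : List PP} (hv : ∀ s ∈ gens, valid 24 s = true) {H : Subgroup (Equiv.Perm GolayPt)}
    (hH : ∀ s ∈ gens, toP s ∈ H) {p : GolayPt} : ∀ (k : ℕ) (l : List ℕ), (∀ i ∈ l, i < 24 ∧ ptAt i ∈ orb H p) →
      ∀ i ∈ reach gens k l, i < 24 ∧ ptAt i ∈ orb H p
  | 0, l, hl => hl
  | k + 1, l, hl => by
    refine reach_sound hv hH k _ fun i hi => ?_
    rw [List.mem_dedup, List.mem_append, List.mem_flatMap] at hi
    rcases hi with hi | ⟨s, hs, hi⟩
    · exact hl i hi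
    obtain ⟨j, hj, rfl⟩ := List.mem_map.mp hi
    obtain ⟨hj24, hjo⟩ := hl j hj
    refine ⟨valid_lt (hv s hs) hj24, ?_⟩
    rw [← toP_ptAt (hv s hs) hj24]
    exact orb_mem_of_mem hjo (hH s hs) rfl

/-- A subgroup preserving a set on which elements of orders eleven and twenty-three cannot act. -/
theorem stab_coprime {K : Subgroup (Equiv.Perm GolayPt)} (hK : K ≤ M24) {A : Finset GolayPt}
    (hA : ∀ g ∈ K, g • A = A) (h11 : ∀ k ≤ 2, A.card % 11 ≠ k) (h23 : ∀ k ≤ 1, A.card % 23 ≠ k) :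
    (Nat.card K).Coprime (11 * 23) := by
  have hno : ∀ q f : ℕ, q.Prime → ((q = 11 ∧ f = 2) ∨ (q = 23 ∧ f = 1)) → (∀ k ≤ f, A.card % q ≠ k) →
      ¬ q ∣ Nat.card K := by
    intro q f hq hf hne hd
    haveI := Fact.mk hq
    obtain ⟨⟨x, hxK⟩, hx⟩ := exists_prime_orderOf_dvd_card' q hd
    rw [← Subgroup.orderOf_coe] at hx
    change orderOf x = q at hx
    have h1 := set_modEq hx (hA x hxK)
    have h2 : (A ∩ fixed x).card ≤ f :=
      (Finset.card_le_card Finset.inter_subset_right).trans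
        (card_fixed (hK hxK) hx (f := f) (by rcases hf with h | h <;> tauto)).le
    refine hne _ ?_ rfl
    rw [h1]
    exact (Nat.mod_le _ _).trans h2
  exact Nat.Coprime.mul_right
    ((Nat.Prime.coprime_iff_not_dvd (by norm_num)).mpr (hno 11 2 (by norm_num) (Or.inl ⟨rfl, rfl⟩) h11)).symm
    ((Nat.Prime.coprime_iff_not_dvd (by norm_num)).mpr (hno 23 1 (by norm_num) (Or.inr ⟨rfl, rfl⟩) h23)).symm

end Cfsg.Lib.Classical.MLowIndex
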