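import Cfsg.Agent.Classical.MLowIndex.Basic
import Cfsg.Agent.Golay.Elements

/-! Conjugation to a certified Sylow subgroup, and blocks of transitive subgroups. -/

set_option autoImplicit false
set_option maxRecDepth 100000
set_option linter.style.haveILetI false

namespace Cfsg.Lib.Classical.MLowIndex

open Cfsg Cfsg.Lib.PermCert Cfsg.Lib.Golay MulAction
open scoped Pointwise

theorem valid_topGens {n : ℕ} : ∀ {c : List Level}, check n c = true → ∀ s ∈ topGens c, valid n s = true
  | [], _, s, hs => absurd hs List.not_mem_nil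
  | L :: r, h, s, hs => by
    simp only [check, Bool.and_eq_true] at h
    exact (levelOK h.1).gens_valid s hs

/-- The conjugate `c⁻¹ K c`. -/
def cj (c : Equiv.Perm GolayPt) (K : Subgroup (Equiv.Perm GolayPt)) : Subgroup (Equiv.Perm GolayPt) :=
  K.map (MulAut.conj c⁻¹).toMonoidHom

theorem mem_cj {c g : Equiv.Perm GolayPt} {K : Subgroup (Equiv.Perm GolayPt)} :
    g ∈ cj c K ↔ c * g * c⁻¹ ∈ K := by
  constructor
  · rintro ⟨k, hk, rfl⟩
    simpa [mul_assoc] using hk
  · exact fun h => ⟨_, h, by simp [mul_assoc]⟩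

theorem card_cj (c : Equiv.Perm GolayPt) (K : Subgroup (Equiv.Perm GolayPt)) : Nat.card (cj c K) = Nat.card K :=
  Subgroup.card_map_of_injective (MulAut.conj _).injective

theorem cj_le {c : Equiv.Perm GolayPt} {G K : Subgroup (Equiv.Perm GolayPt)} (hc : c ∈ G) (hK : K ≤ G) :
    cj c K ≤ G := fun g hg => by
  have h1 := G.mul_mem (G.mul_mem (G.inv_mem hc) (hK (mem_cj.mp hg))) hc
  simpa [mul_assoc] using h1

theorem smul_cj {β : Type*} [MulAction (Equiv.Perm GolayPt) β] {c : Equiv.Perm GolayPt}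
    {K : Subgroup (Equiv.Perm GolayPt)} {A : β} (hA : ∀ g ∈ cj c K, g • A = A) :
    ∀ g ∈ K, g • (c • A) = c • A := by
  intro g hg
  have h := hA (c⁻¹ * g * c) (mem_cj.mpr (by simpa [mul_assoc] using hg))
  rw [mul_smul, mul_smul, inv_smul_eq_iff] at h
  exact h

/-- Conjugating a certified Sylow subgroup into a subgroup. -/
theorem sylow_conj {p k : ℕ} [Fact p.Prime] {G K : Subgroup (Equiv.Perm GolayPt)} (hK : K ≤ G) {c : List Level}
    (hchk : check 24 c = true) (hP : onPts c ≤ G) (hsize : size c = p ^ k)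
    (hG : (Nat.card G).factorization p = k) (hd : p ^ k ∣ Nat.card K) :
    ∃ g ∈ G, ∀ s ∈ topGens c, toP s ∈ cj g K := by
  let P : Sylow p G := Sylow.ofCard ((onPts c).subgroupOf G) (by
    rw [Nat.card_congr (Subgroup.subgroupOfEquivOfLe hP).toEquiv, hG, card_onPts hchk, hsize])
  obtain ⟨Q₀, hQ₀⟩ := Sylow.exists_subgroup_card_pow_prime p hd
  let Q : Sylow p G := Sylow.ofCard (Q₀.map (Subgroup.inclusion hK)) (by
    rw [Subgroup.card_map_of_injective (Subgroup.inclusion_injective hK), hQ₀, hG])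
  obtain ⟨g, hg⟩ := MulAction.exists_smul_eq G P Q
  refine ⟨g, g.2, fun s hs => mem_cj.mpr ?_⟩
  have hsP : toP s ∈ onPts c := ⟨perm 24 s, perm_mem_grp hs, rfl⟩
  have h1 : g * ⟨toP s, hP hsP⟩ * g⁻¹ ∈ (g • P : Sylow p G) := ⟨⟨toP s, hP hsP⟩, hsP, rfl⟩
  rw [hg] at h1
  obtain ⟨q, -, hq⟩ := h1
  have h2 := congrArg (fun z : G => (z : Equiv.Perm GolayPt)) hq
  simp only [Subgroup.coe_mul, InvMemClass.coe_inv] at h2
  exact h2 ▸ q.2

/-- An invariant set meets the fixed points in a congruent number. -/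
theorem mod_le_inter {q : ℕ} [Fact q.Prime] {x : Equiv.Perm GolayPt} (hx : orderOf x = q) {A : Finset GolayPt}
    (hA : x • A = A) : A.card % q ≤ (A ∩ fixed x).card := by
  rw [set_modEq hx hA]; exact Nat.mod_le _ _

/-- A small invariant set consists of fixed points. -/
theorem subset_fixed {q : ℕ} [Fact q.Prime] {x : Equiv.Perm GolayPt} (hx : orderOf x = q) {A : Finset GolayPt}
    (hA : x • A = A) (h : A.card < q) : A ⊆ fixed x := by
  have h1 := mod_le_inter hx hA
  rw [Nat.mod_eq_of_lt h] at h1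
  rw [← Finset.eq_of_subset_of_card_le Finset.inter_subset_left h1]
  exact Finset.inter_subset_right

theorem card_stab_mul_orb (L : Subgroup (Equiv.Perm GolayPt)) (p : GolayPt) :
    Nat.card ↥(L ⊓ stabilizer (Equiv.Perm GolayPt) p) * (orb L p).card = Nat.card L := by
  rw [orb, ← Set.ncard_eq_toFinset_card]
  exact card_subgroup_inter L p

theorem orb_subset {L : Subgroup (Equiv.Perm GolayPt)} {A : Finset GolayPt} (hA : ∀ g ∈ L, g • A = A) {p : GolayPt}
    (hp : p ∈ A) : orb L p ⊆ A := by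
  intro r hr
  obtain ⟨g, hg, rfl⟩ := mem_orb.mp hr
  exact (mem_iff_of_smul_eq (hA g hg) p).mpr hp

/-- An element of order `q` in the stabiliser of a point of a small invariant set. -/
theorem exists_order_stab {q : ℕ} [Fact q.Prime] {L : Subgroup (Equiv.Perm GolayPt)} (hq : q ∣ Nat.card L)
    {A : Finset GolayPt} (hA : ∀ g ∈ L, g • A = A) (hlt : A.card < q) {p : GolayPt} (hp : p ∈ A) :
    ∃ x ∈ L, x p = p ∧ orderOf x = q := by
  rw [← card_stab_mul_orb L p] at hq
  have hne : ¬ q ∣ (orb L p).card := fun h => by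
    have h1 := Nat.le_of_dvd (Finset.card_pos.mpr ⟨p, self_mem_orb L p⟩) h
    have h2 := Finset.card_le_card (orb_subset hA hp)
    omega
  obtain ⟨⟨x, hxL, hxp⟩, hx⟩ := exists_prime_orderOf_dvd_card' q
    ((((Fact.out : q.Prime).dvd_mul).mp hq).resolve_right hne)
  rw [← Subgroup.orderOf_coe] at hx
  exact ⟨x, hxL, hxp, hx⟩

variable {H : Subgroup (Equiv.Perm GolayPt)}

theorem smul_mem_cls {h : Equiv.Perm GolayPt} {y : GolayPt} {B : Finset GolayPt} (hh : h ∈ H) (hy : h none = y)
    (hB : ∀ g ∈ H ⊓ stabilizer (Equiv.Perm GolayPt) (none : GolayPt), g • B = B) {g : Equiv.Perm GolayPt}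
    (hg : g ∈ H) (hgy : g y = y) : g • (h • B) = h • B := by
  have h1 := hB (h⁻¹ * g * h) ⟨H.mul_mem (H.mul_mem (H.inv_mem hh) hg) hh, by
    show (h⁻¹ * g * h) none = none
    rw [Equiv.Perm.mul_apply, hy, Equiv.Perm.mul_apply, hgy, Equiv.Perm.inv_eq_iff_eq, hy]⟩
  rw [mul_smul, mul_smul, inv_smul_eq_iff] at h1
  exact h1

/-- An invariant set of the point stabiliser as large as the fixed set of elements of order `q` is a block. -/
theorem small_block (hH : H ≤ M24) {q : ℕ} [Fact q.Prime] {B : Finset GolayPt} (hq : (q = 5 ∧ B.card = 4) ∨ (q = 7 ∧ B.card = 3))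
    (hd : q ∣ Nat.card ↥(H ⊓ stabilizer (Equiv.Perm GolayPt) (none : GolayPt))) (hn : none ∈ B)
    (hB : ∀ g ∈ H ⊓ stabilizer (Equiv.Perm GolayPt) (none : GolayPt), g • B = B) :
    ∀ h ∈ H, h none ∈ B → h • B = B := by
  intro h hh hy
  have hlt : B.card < q := by omega
  obtain ⟨x, hxL, hxy, hx⟩ := exists_order_stab hd hB hlt hy
  have hf : (fixed x).card = B.card := card_fixed (hH hxL.1) hx (by omega)
  have e1 : B = fixed x := Finset.eq_of_subset_of_card_le (subset_fixed hx (hB x hxL) hlt) hf.le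
  have h2 : h • B ⊆ fixed x :=
    subset_fixed hx (smul_mem_cls hh rfl hB hxL.1 hxy) (by rwa [Finset.card_smul_finset])
  rw [← e1] at h2
  exact Finset.eq_of_subset_of_card_le h2 (Finset.card_smul_finset h B).ge

/-- Overlapping translates of a block are equal. -/
theorem block_eq (htr : ∀ p : GolayPt, ∃ h ∈ H, h none = p) {B : Finset GolayPt}
    (hB : ∀ h ∈ H, h none ∈ B → h • B = B) {g k : Equiv.Perm GolayPt} (hg : g ∈ H) (hk : k ∈ H) {p : GolayPt}
    (hpg : p ∈ g • B) (hpk : p ∈ k • B) : g • B = k • B := by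
  obtain ⟨a, ha, rfl⟩ := Finset.mem_smul_finset.mp hpg
  obtain ⟨b, hb, hbe⟩ := Finset.mem_smul_finset.mp hpk
  obtain ⟨u, hu, hua⟩ := htr a
  have h1 : u • B = B := hB u hu (hua ▸ ha)
  have hm : k⁻¹ * g * u ∈ H := H.mul_mem (H.mul_mem (H.inv_mem hk) hg) hu
  have h2 : (k⁻¹ * g * u) • B = B := hB _ hm (by
    rw [Equiv.Perm.mul_apply, hua, Equiv.Perm.mul_apply]
    change k b = g a at hbe
    rw [← hbe, Equiv.Perm.inv_def, Equiv.symm_apply_apply]
    exact hb)
  rw [mul_smul, h1, mul_smul, inv_smul_eq_iff] at h2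
  exact h2

/-- No blocks of a size congruent to three modulo five. -/
theorem no_blocks (hH : H ≤ M24) (h5 : 5 ∣ Nat.card H) (htr : ∀ p : GolayPt, ∃ h ∈ H, h none = p)
    {B : Finset GolayPt} (hn : none ∈ B) (hc : B.card % 5 = 3) (hB : ∀ h ∈ H, h none ∈ B → h • B = B) : False := by
  haveI : Fact (Nat.Prime 5) := ⟨by norm_num⟩
  obtain ⟨⟨x, hxH⟩, hx⟩ := exists_prime_orderOf_dvd_card' (G := H) 5 h5
  rw [← Subgroup.orderOf_coe] at hx
  change orderOf x = 5 at hx
  have hf : (fixed x).card = 4 := card_fixed (hH hxH) hx (by omega)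
  have hblk : ∀ p ∈ fixed x, ∃ h ∈ H, p ∈ h • B ∧ 3 ≤ ((h • B) ∩ fixed x).card ∧
      ((h • B) ∩ fixed x).card % 5 = 3 := by
    intro p hp
    obtain ⟨h, hh, rfl⟩ := htr p
    have hm : h none ∈ h • B := Finset.smul_mem_smul_finset hn
    have he : x • (h • B) = h • B := by
      rw [← mul_smul]
      refine block_eq htr hB (H.mul_mem hxH hh) hh (p := h none) ?_ hm
      rw [mul_smul, ← mem_fixed.mp hp]
      exact Finset.smul_mem_smul_finset hm
    have h1 := set_modEq hx he
    rw [Finset.card_smul_finset, hc] at h1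
    exact ⟨h, hh, hm, by omega, h1.symm⟩
  obtain ⟨p, hp⟩ : (fixed x).Nonempty := Finset.card_pos.mp (by omega)
  obtain ⟨h, hh, -, h3, hm3⟩ := hblk p hp
  have hle : ((h • B) ∩ fixed x).card ≤ 4 := hf ▸ Finset.card_le_card Finset.inter_subset_right
  obtain ⟨r, hr, hr'⟩ := Finset.exists_mem_notMem_of_card_lt_card
    (s := (h • B) ∩ fixed x) (t := fixed x) (by omega)
  obtain ⟨k, hk, hrk, h3', -⟩ := hblk r hr
  have hdis : Disjoint ((h • B) ∩ fixed x) ((k • B) ∩ fixed x) := by
    rw [Finset.disjoint_left]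
    intro a ha ha'
    rw [Finset.mem_inter] at ha ha'
    exact hr' (Finset.mem_inter.mpr ⟨block_eq htr hB hk hh ha'.1 ha.1 ▸ hrk, hr⟩)
  have h6 := Finset.card_le_card (Finset.union_subset (Finset.inter_subset_right (s₁ := h • B) (s₂ := fixed x))
    (Finset.inter_subset_right (s₁ := k • B) (s₂ := fixed x)))
  rw [Finset.card_union_of_disjoint hdis] at h6
  omega

/-- The order of the point stabiliser in a transitive subgroup. -/
theorem card_stab_none (htr : ∀ p : GolayPt, ∃ h ∈ H, h none = p) :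
    Nat.card ↥(H ⊓ stabilizer (Equiv.Perm GolayPt) (none : GolayPt)) * 24 = Nat.card H := by
  have h := card_stab_mul_orb H none
  rw [show orb H none = Finset.univ from Finset.eq_univ_of_forall fun p => mem_orb.mpr (htr p), Finset.card_univ,
    card_golayPt] at h
  exact h

/-- The large class of the Sylow subgroup of the whole group. -/
def octCls : List ℕ := [0, 1, 2, 3, 8, 15, 16, 19]

/-- The other class. -/
def restCls : List ℕ := [4, 5, 6, 7, 9, 10, 11, 12, 13, 14, 17, 18, 20, 21, 22, 23]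

/-- The set of the large class. -/
def octSet : Finset GolayPt := (octCls.map ptAt).toFinset

theorem octSet_ok : inCode (mk octSet) = true ∧ octSet.card = 8 := by decide +kernel

/-- The classes lie in single orbits. -/
def syl24OK : Bool :=
  decide (size cgSyl2.chain = 1024) && gensIn cgSyl2 cgM24 &&
    [octCls, restCls].all fun c => c.all fun i => let r := reach (topGens cgSyl2.chain) 6 [i]; c.all fun j => r.contains j

theorem syl24_ok : syl24OK = true := by decide +kernel

theorem split_ok : ∀ i : Fin 24, octCls.contains i.val || restCls.contains i.val = true := by decide +kernel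

/-- A subgroup with a full Sylow 2-subgroup is transitive or fixes an octad. -/
theorem trans_or_octad (hH : H ≤ M24) (hd : 1024 ∣ Nat.card H) :
    (∀ p : GolayPt, ∃ h ∈ H, h none = p) ∨ ∃ o ∈ octads, ∀ g ∈ H, g • o = o := by
  classical
  haveI : Fact (Nat.Prime 2) := ⟨Nat.prime_two⟩
  have hok := syl24_ok
  simp only [syl24OK, Bool.and_eq_true, decide_eq_true_eq, List.all_eq_true, List.contains_iff_mem,
    List.forall_mem_cons, List.not_mem_nil, IsEmpty.forall_iff, implies_true, and_true] at hok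
  obtain ⟨⟨hsize, hin⟩, hA, hR⟩ := hok
  have hchk := (CG.ok_spec cgSyl2_ok).1
  have hP : cgSyl2.grp ≤ M24 := grp_cgM24 ▸ grp_le_of_gensIn cgM24_ok cgSyl2_ok hin
  obtain ⟨c, hc, hgen⟩ := sylow_conj (p := 2) (k := 10) hH hchk hP (hsize.trans (by norm_num))
    (by rw [card_M24]; exact factorization_eq Nat.prime_two (by norm_num) (by norm_num) (by norm_num))
    (by rw [show (2 : ℕ) ^ 10 = 1024 by norm_num]; exact hd)
  have hv := valid_topGens hchk
  let O := orb (cj c H) (ptAt 0)
  have hcl : ∀ i, i < 24 → ptAt i ∈ O → ∀ j ∈ reach (topGens cgSyl2.chain) 6 [i], ptAt j ∈ O :=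
    fun i hi hiO j hj => (reach_sound hv hgen 6 [i] (fun k hk => by
      rw [List.mem_singleton] at hk; subst hk; exact ⟨hi, hiO⟩) j hj).2
  have h0 : ∀ j ∈ octCls, ptAt j ∈ O := fun j hj =>
    hcl 0 (by norm_num) (self_mem_orb _ _) j (hA 0 (by decide) j hj)
  by_cases hrest : ∃ i ∈ restCls, ptAt i ∈ O
  · obtain ⟨i, hi, hiO⟩ := hrest
    have h1 : ∀ j ∈ restCls, ptAt j ∈ O := fun j hj =>
      hcl i ((by decide : ∀ a ∈ restCls, a < 24) i hi) hiO j (hR i hi j hj)
    have hall : ∀ p, p ∈ O := fun p => by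
      have h := split_ok (ptEquiv p)
      rw [Bool.or_eq_true] at h
      simp only [List.contains_iff_mem, decide_eq_true_eq] at h
      rw [← M22Block.ptAt_pidx p]
      exact h.elim (h0 _) (h1 _)
    refine Or.inl fun p => ?_
    obtain ⟨a, ha, hae⟩ := mem_orb.mp (hall (c⁻¹ none))
    obtain ⟨b, hb, hbe⟩ := mem_orb.mp (hall (c⁻¹ p))
    have hm : b * a⁻¹ ∈ cj c H := (cj c H).mul_mem hb ((cj c H).inv_mem ha)
    refine ⟨_, mem_cj.mp hm, ?_⟩
    rw [Equiv.Perm.mul_apply, Equiv.Perm.mul_apply, ← hae, Equiv.Perm.mul_apply, Equiv.Perm.inv_def a,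
      Equiv.symm_apply_apply, hbe, Equiv.Perm.inv_def, Equiv.apply_symm_apply]
  · have hO : O = octSet := by
      refine Finset.Subset.antisymm (fun p hp => ?_) fun p hp => ?_
      · have h := split_ok (ptEquiv p)
        rw [Bool.or_eq_true] at h
        simp only [List.contains_iff_mem, decide_eq_true_eq] at h
        rcases h with h | h
        · exact List.mem_toFinset.mpr (List.mem_map.mpr ⟨_, h, M22Block.ptAt_pidx p⟩)
        · exact absurd ⟨_, h, (M22Block.ptAt_pidx p).symm ▸ hp⟩ hrest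
      · obtain ⟨i, hi, rfl⟩ := List.mem_map.mp (List.mem_toFinset.mp hp)
        exact h0 i hi
    exact Or.inr ⟨c • octSet, smul_mem_octads hc ((mem_octads_iff _).mpr octSet_ok),
      smul_cj fun g hg => hO ▸ smul_orb hg (ptAt 0)⟩

end Cfsg.Lib.Classical.MLowIndex
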