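import Cfsg.Agent.PermCert.Basic

/-! Words separating candidate blocks. -/

namespace Cfsg.Lib.Classical.MLowIndex

open Cfsg.Lib.PermCert

/-- An element of order five fixing the standard tetrad. -/
def tetFive : PP := (13828328816705778616860638154166174402969574830261822517749811771909979901093685614673687628895534916625408262146, 13828301295702257973460852311459271241551035845420178410516325662730386030537777045366224440234155292387539812371)

/-- Words, as indices into the generators followed by `tetFive`. -/
def sepWords : List (List ℕ) := [[5, 3]]

end Cfsg.Lib.Classical.MLowIndex
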