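import Cfsg.Agent.Classical.MLowIndex.Block
import Cfsg.Agent.Golay.FusionM23

/-! Subgroups of index 253 in the point stabiliser. -/

set_option autoImplicit false
set_option maxRecDepth 100000
set_option linter.style.haveILetI false

namespace Cfsg.Lib.Classical.MLowIndex

open Cfsg Cfsg.Lib.PermCert Cfsg.Lib.Golay MulAction
open scoped Pointwise

/-- The certificate that the chain is a Sylow subgroup. -/
def sylM23OK : Bool :=
  check 24 FusionCert.certM23.chain && decide (size FusionCert.certM23.chain = 128) &&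
    (topGens FusionCert.certM23.chain).all fun s => valid 24 s && sift 24 (m24PointChain.drop 1) [s]

theorem sylM23_ok : sylM23OK = true := by decide +kernel

/-- The classes of points. -/
def cls : List (List ℕ) :=
  [[0, 1, 2, 3, 4, 5, 7, 8, 10, 11, 12, 13, 14, 19, 21, 22], [6, 18], [9, 16, 17, 20], [15]]

/-- The classes lie in single orbits. -/
def clsOK : Bool :=
  cls.all fun c => c.all fun i => let r := reach (topGens FusionCert.certM23.chain) 5 [i]; c.all fun j => r.contains j

theorem cls_ok : clsOK = true := by decide +kernel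

/-- The representatives of the classes. -/
def repIdx : Fin 4 → ℕ
  | 0 => 0
  | 1 => 6
  | 2 => 9
  | 3 => 15

/-- The class of a point other than the fixed one. -/
def classOf (i : ℕ) : Fin 4 :=
  if i = 15 then 3 else if i = 6 ∨ i = 18 then 1 else if i = 9 ∨ i = 16 ∨ i = 17 ∨ i = 20 then 2 else 0

theorem classOf_ok : ∀ i : Fin 23, cls.any (fun c => c.contains i.val && c.contains (repIdx (classOf i.val))) = true := by
  decide +kernel

/-- The union of the chosen classes. -/
def unionCls (b : Fin 4 → Bool) : Finset GolayPt :=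
  Finset.univ.filter fun p => pidx p ≠ 23 ∧ b (classOf (pidx p)) = true

theorem union_facts : ∀ b : Fin 4 → Bool, b 0 = true →
    ¬ (unionCls b).card ∣ 40320 ∨
      ((unionCls b).card % 7 = 4 ∨ (unionCls b).card % 7 = 6) ∨
      (inCode (mk (unionCls b)ᶜ) = true ∧ (unionCls b)ᶜ.card = 8) ∨ ((unionCls b)ᶜ.erase none).card = 2 := by
  decide +kernel

theorem fixed_mem_smul {g : Equiv.Perm GolayPt} {p : GolayPt} (h : g p = p) {A : Finset GolayPt} :
    p ∈ g • A ↔ p ∈ A := by
  conv_lhs => rw [← h]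
  exact Finset.smul_mem_smul_finset_iff g

theorem classOf_rep : ∀ j : Fin 4, classOf (repIdx j) = j ∧ repIdx j < 24 ∧ ptAt (repIdx j) ≠ none := by decide +kernel

/-- A subgroup of the point stabiliser with a full Sylow 2-subgroup contains a conjugate of the certified one. -/
theorem m23_syl {K : Subgroup (Equiv.Perm GolayPt)} (hK : K ≤ Spor.M23) (hd : 128 ∣ Nat.card K) :
    ∃ c ∈ Spor.M23, ∀ s ∈ topGens FusionCert.certM23.chain, toP s ∈ cj c K := by
  haveI : Fact (Nat.Prime 2) := ⟨Nat.prime_two⟩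
  have hok := sylM23_ok
  simp only [sylM23OK, Bool.and_eq_true, decide_eq_true_eq, List.all_eq_true] at hok
  obtain ⟨⟨hchk, hsize⟩, hgen⟩ := hok
  refine sylow_conj (p := 2) (k := 7) hK hchk ?_ (hsize.trans (by norm_num)) ?_ (by norm_num; simpa using hd)
  · rw [M23_eq]
    refine Subgroup.map_mono ((Subgroup.closure_le _).mpr ?_)
    rintro _ ⟨s, hs, rfl⟩
    obtain ⟨hv, hsf⟩ := hgen s hs
    have := mem_grp_of_sift pointChain_check1 (w := [s]) (by simpa using hv) hsf
    simpa [wperm] using this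
  · rw [card_M23]
    exact factorization_eq Nat.prime_two (by norm_num) (by norm_num) (by norm_num)

theorem fix_none {L : Subgroup (Equiv.Perm GolayPt)} (hL : L ≤ Spor.M23) {g : Equiv.Perm GolayPt} (hg : g ∈ L) :
    g none = none := mem_stabilizer_iff.mp (hL hg).2

/-- An orbit of a group containing the Sylow subgroup is a union of classes. -/
theorem orb_union {L : Subgroup (Equiv.Perm GolayPt)} (hL : L ≤ Spor.M23)
    (hsL : ∀ s ∈ topGens FusionCert.certM23.chain, toP s ∈ L) (j : Fin 4) :
    ∃ b : Fin 4 → Bool, b j = true ∧ orb L (ptAt (repIdx j)) = unionCls b := by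
  classical
  have hok := sylM23_ok
  simp only [sylM23OK, Bool.and_eq_true, decide_eq_true_eq, List.all_eq_true] at hok
  have hv : ∀ s ∈ topGens FusionCert.certM23.chain, valid 24 s = true := fun s hs => (hok.2 s hs).1
  let O := orb L (ptAt (repIdx j))
  have hnone : none ∉ O := fun h => by
    obtain ⟨g, hg, e⟩ := mem_orb.mp h
    exact (classOf_rep j).2.2 (g.injective (e.trans (fix_none hL hg).symm))
  have hclass : ∀ p, p ≠ none → (p ∈ O ↔ ptAt (repIdx (classOf (pidx p))) ∈ O) := by
    intro p hp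
    have hlt : pidx p < 23 := by
      rcases p with _ | x
      · exact absurd rfl hp
      · exact x.val_lt
    have hc' := classOf_ok ⟨pidx p, hlt⟩
    simp only [List.any_eq_true, Bool.and_eq_true, List.contains_iff_mem] at hc'
    obtain ⟨l, hl, hi, hr⟩ := hc'
    have hcls := cls_ok
    simp only [clsOK, List.all_eq_true, List.contains_iff_mem] at hcls
    have key : ∀ a ∈ l, ∀ b ∈ l, a < 24 → ptAt a ∈ O → ptAt b ∈ O := by
      intro a ha b hb ha24 haO
      exact (reach_sound hv hsL 5 [a] (fun i hi => by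
        rw [List.mem_singleton] at hi; subst hi; exact ⟨ha24, haO⟩) b (hcls l hl a ha b hb)).2
    have hp' : ptAt (pidx p) = p := ptEquiv.symm_apply_apply p
    exact ⟨fun h => key _ hi _ hr (by omega) (hp'.symm ▸ h),
      fun h => hp' ▸ key _ hr _ hi (classOf_rep _).2.1 h⟩
  refine ⟨fun k => decide (ptAt (repIdx k) ∈ O), by simp [O, self_mem_orb], ?_⟩
  ext p
  rw [unionCls, Finset.mem_filter]
  by_cases hp : p = none
  · subst hp
    exact iff_of_false hnone (fun h => h.2.1 rfl)
  have hne : pidx p ≠ 23 := by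
    rcases p with _ | x
    · exact absurd rfl hp
    · exact (x.val_lt).ne
  simp only [Finset.mem_univ, true_and, ne_eq, hne, not_false_eq_true, decide_eq_true_eq]
  exact hclass p hp

/-- Subgroups of order 40320 and 13440 of the point stabiliser fix a pair or an octad. -/
theorem m23_invariant (K : Subgroup (Equiv.Perm GolayPt)) (hK : K ≤ Spor.M23)
    (hc : Nat.card K = 40320 ∨ Nat.card K = 13440) :
    (∃ s : Finset GolayPt, s.card = 2 ∧ none ∉ s ∧ ∀ g ∈ K, g • s = s) ∨
      ∃ o ∈ octads, none ∈ o ∧ ∀ g ∈ K, g • o = o := by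
  classical
  haveI : Fact (Nat.Prime 7) := ⟨by norm_num⟩
  obtain ⟨c, hcG, hsL⟩ := m23_syl hK (by rcases hc with e | e <;> rw [e] <;> norm_num)
  have hL23 : cj c K ≤ Spor.M23 := cj_le hcG hK
  have hfix : ∀ g ∈ cj c K, g none = none := fun g hg => fix_none hL23 hg
  have hcn : c none = none := mem_stabilizer_iff.mp hcG.2
  have hLc := card_cj c K
  obtain ⟨b, hb0, hO⟩ := orb_union hL23 hsL 0
  set O := orb (cj c K) (ptAt (repIdx 0)) with hOdef
  have hnone : none ∉ O := by rw [hO]; simp [unionCls, show pidx (none : GolayPt) = 23 from rfl]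
  have hdvd : O.card ∣ 40320 := by
    have h := card_orb_dvd (cj c K) (ptAt (repIdx 0))
    rw [hLc, ← hOdef] at h
    rcases hc with e | e <;> rw [e] at h
    exacts [h, h.trans (by norm_num)]
  obtain ⟨⟨x, hxL⟩, hx7⟩ := exists_prime_orderOf_dvd_card' (G := cj c K) 7
    (by rw [hLc]; rcases hc with e | e <;> rw [e] <;> norm_num)
  rw [← Subgroup.orderOf_coe] at hx7
  change orderOf x = 7 at hx7
  have h7 : O.card % 7 ≤ 2 := by
    refine (mod_le_inter hx7 (smul_orb hxL _)).trans ?_
    have h3 := card_fixed (hL23 hxL).1 hx7 (f := 3) (Or.inr (Or.inl ⟨rfl, rfl⟩))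
    have hsub : O ∩ fixed x ⊆ (fixed x).erase none := fun r hr => by
      rw [Finset.mem_inter] at hr
      exact Finset.mem_erase.mpr ⟨fun e => hnone (e ▸ hr.1), hr.2⟩
    have h4 := Finset.card_le_card hsub
    rw [Finset.card_erase_of_mem (mem_fixed.mpr (hfix x hxL)), h3] at h4
    exact h4
  have hcompl : ∀ g ∈ cj c K, g • Oᶜ = Oᶜ := fun g hg => smul_eq_of_mem_imp fun r hr =>
    Finset.mem_compl.mpr fun hr' => Finset.mem_compl.mp hr ((mem_iff_of_smul_eq (smul_orb hg _) r).mp hr')
  rcases union_facts b hb0 with h | h | h | h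
  · exact absurd (hO ▸ hdvd) h
  · rw [← hO] at h; omega
  · rw [← hO] at h
    exact Or.inr ⟨c • Oᶜ, smul_mem_octads hcG.1 ((mem_octads_iff _).mpr h),
      (fixed_mem_smul hcn).mpr (Finset.mem_compl.mpr hnone), smul_cj hcompl⟩
  · rw [← hO] at h
    refine Or.inl ⟨c • Oᶜ.erase none, by rw [Finset.card_smul_finset, h],
      fun e => (Finset.mem_erase.mp ((fixed_mem_smul hcn).mp e)).1 rfl, smul_cj fun g hg => ?_⟩
    rw [Finset.erase_eq, Finset.smul_finset_sdiff, hcompl g hg, Finset.smul_finset_singleton]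
    show _ \ {g none} = _
    rw [hfix g hg]

/-- The stabiliser of a pair or of an octad in the point stabiliser has order at most 40320. -/
theorem card_stab_le {A B : Finset GolayPt} (hAB : ∀ g ∈ Spor.M23, g • A = A → g • B = B)
    (h11 : ∀ k ≤ 2, B.card % 11 ≠ k) (h23 : ∀ k ≤ 1, B.card % 23 ≠ k) :
    Nat.card ↥(Spor.M23 ⊓ stabilizer (Equiv.Perm GolayPt) A) ≤ 40320 := by
  refine Nat.le_of_dvd (by norm_num) ?_
  have hcop := stab_coprime (K := Spor.M23 ⊓ stabilizer (Equiv.Perm GolayPt) A)
    (fun g hg => hg.1.1) (fun g hg => hAB g hg.1 (mem_stabilizer_iff.mp hg.2)) h11 h23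
  refine hcop.dvd_of_dvd_mul_right (m := 40320) ?_
  refine (Subgroup.card_dvd_of_le inf_le_left).trans (dvd_of_eq ?_)
  rw [card_M23]

theorem subgroup_253 (K : Subgroup (Equiv.Perm GolayPt)) (hK : K ≤ Spor.M23) (hc : Nat.card K = 40320) :
    (∃ s : Finset GolayPt, s.card = 2 ∧ none ∉ s ∧ K = Spor.M23 ⊓ stabilizer (Equiv.Perm GolayPt) s) ∨
      ∃ o ∈ octads, none ∈ o ∧ K = Spor.M23 ⊓ stabilizer (Equiv.Perm GolayPt) o := by
  classical
  have heq : ∀ A B : Finset GolayPt, (∀ g ∈ K, g • A = A) → (∀ g ∈ Spor.M23, g • A = A → g • B = B) →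
      (∀ k ≤ 2, B.card % 11 ≠ k) → (∀ k ≤ 1, B.card % 23 ≠ k) →
      K = Spor.M23 ⊓ stabilizer (Equiv.Perm GolayPt) A := fun A B hA hAB h11 h23 =>
    Subgroup.eq_of_le_of_card_ge (fun g hg => ⟨hK hg, mem_stabilizer_iff.mpr (hA g hg)⟩)
      (hc ▸ card_stab_le hAB h11 h23)
  rcases m23_invariant K hK (Or.inl hc) with ⟨s, hs, hns, hs'⟩ | ⟨o, ho, hno, ho'⟩
  · have h3 : (insert none s).card = 3 := by rw [Finset.card_insert_of_notMem hns, hs]
    refine Or.inl ⟨s, hs, hns, heq s (insert none s) hs' (fun g hg h => ?_)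
      (by intro k hk; rw [h3]; omega) (by intro k hk; rw [h3]; omega)⟩
    rw [Finset.smul_finset_insert, h, show g • (none : GolayPt) = none from mem_stabilizer_iff.mp hg.2]
  · exact Or.inr ⟨o, ho, hno, heq o o ho' (fun g _ h => h) (by intro k hk; rw [ho.2]; omega)
      (by intro k hk; rw [ho.2]; omega)⟩

end Cfsg.Lib.Classical.MLowIndex
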