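import Cfsg.Agent.Classical.MLowIndex.M23Index
import Cfsg.Agent.Classical.MTwentyTwo.Main

/-! Subgroups of index 253, 276 and 759 of the group of the code. -/

set_option autoImplicit false
set_option maxRecDepth 100000
set_option linter.style.haveILetI false

namespace Cfsg.Lib.Classical.MLowIndex

open Cfsg Cfsg.Lib.PermCert Cfsg.Lib.Golay MulAction
open scoped Pointwise

variable {H : Subgroup (Equiv.Perm GolayPt)}

theorem stab_none_le (hH : H ≤ M24) : H ⊓ stabilizer (Equiv.Perm GolayPt) (none : GolayPt) ≤ Spor.M23 :=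
  fun _ hg => ⟨hH hg.1, hg.2⟩

/-- An octad of the point stabiliser of a large transitive subgroup is a block. -/
theorem octad_block (hH : H ≤ M24)
    (hL : 13440 ≤ Nat.card ↥(H ⊓ stabilizer (Equiv.Perm GolayPt) (none : GolayPt))) {o : Finset GolayPt}
    (ho : o ∈ octads) (hn : none ∈ o)
    (hoL : ∀ g ∈ H ⊓ stabilizer (Equiv.Perm GolayPt) (none : GolayPt), g • o = o) :
    ∀ h ∈ H, h none ∈ o → h • o = o := by
  classical
  intro h hh hy
  set L := H ⊓ stabilizer (Equiv.Perm GolayPt) (none : GolayPt) with hLdef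
  set N := M24 ⊓ fixingSubgroup (Equiv.Perm GolayPt) (o : Set GolayPt) with hNdef
  set S := Spor.M23 ⊓ stabilizer (Equiv.Perm GolayPt) o with hSdef
  have h6 : 6 ≤ o.card := by rw [ho.2]; norm_num
  have hN16 : Nat.card N = 16 := (card_fix_six ho (Finset.Subset.refl o) h6).1
  have hNfix : ∀ g ∈ N, ∀ p ∈ o, g p = p := fun g hg p hp => (mem_fixingSubgroup_iff _).mp hg.2 p hp
  have hNS : N ≤ S := fun g hg =>
    ⟨⟨hg.1, mem_stabilizer_iff.mpr (hNfix g hg none hn)⟩,
      mem_stabilizer_iff.mpr (smul_eq_of_mem_imp fun p hp => (hNfix g hg p hp).symm ▸ hp)⟩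
  have hLS : L ≤ S := fun g hg => ⟨stab_none_le hH hg, mem_stabilizer_iff.mpr (hoL g hg)⟩
  have hS : Nat.card S ≤ 40320 := card_stab_le (B := o) (fun g _ h => h)
    (by intro k hk; rw [ho.2]; omega) (by intro k hk; rw [ho.2]; omega)
  have h8 : 8 ≤ Nat.card ↥(L ⊓ N) := by
    have hr : L.relIndex N ≤ L.relIndex S :=
      Subgroup.relIndex_le_of_le_right hNS (Subgroup.index_ne_zero_of_finite)
    have hS' : Nat.card L * L.relIndex S = Nat.card S := by
      rw [← Nat.card_congr (Subgroup.subgroupOfEquivOfLe hLS).toEquiv]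
      exact (L.subgroupOf S).card_mul_index
    have hN' : Nat.card ↥(L ⊓ N) * L.relIndex N = 16 := by
      rw [← hN16, ← Subgroup.inf_relIndex_right L N,
        ← Nat.card_congr (Subgroup.subgroupOfEquivOfLe (inf_le_right : L ⊓ N ≤ N)).toEquiv]
      exact ((L ⊓ N).subgroupOf N).card_mul_index
    have h3 : L.relIndex S ≤ 3 := by
      have := Nat.mul_le_mul_right (L.relIndex S) hL
      omega
    have h4 : L.relIndex N ≤ 3 := hr.trans h3
    generalize L.relIndex N = r at hN' h4
    interval_cases r <;> omega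
  refine smul_eq_of_mem_imp fun p hp => ?_
  by_contra hout
  have hinv : ∀ g ∈ L ⊓ N, g • (h • o) = h • o := fun g hg =>
    smul_mem_cls hh rfl hoL hg.1.1 (hNfix g hg.2 _ hy)
  have hpm : h p ∈ h • o := Finset.smul_mem_smul_finset hp
  let f : ↥(L ⊓ N) → ↥((h • o).erase (h none)) := fun g => ⟨(g : Equiv.Perm GolayPt) (h p), by
    refine Finset.mem_erase.mpr ⟨fun e => hout ?_, ?_⟩
    · rw [(g : Equiv.Perm GolayPt).injective (e.trans (hNfix g g.2.2 _ hy).symm)]
      exact hy
    · exact (mem_iff_of_smul_eq (hinv g g.2) _).mpr hpm⟩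
  have hinj : Function.Injective f := by
    intro a b hab
    have he : (a : Equiv.Perm GolayPt) (h p) = (b : Equiv.Perm GolayPt) (h p) := congrArg Subtype.val hab
    have hm : ((b : Equiv.Perm GolayPt))⁻¹ * a ∈ N := N.mul_mem (N.inv_mem b.2.2) a.2.2
    have h1 := eq_one_of_six_one ho (Finset.Subset.refl o) h6 hm.1 (hNfix _ hm) hout
      (by rw [Equiv.Perm.mul_apply, he, Equiv.Perm.inv_def, Equiv.symm_apply_apply])
    exact (Subtype.ext (inv_mul_eq_one.mp h1)).symm
  have h7 := Nat.card_le_card_of_injective f hinj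
  rw [Nat.card_eq_fintype_card (α := ↥((h • o).erase (h none))), Fintype.card_coe,
    Finset.card_erase_of_mem (show h none ∈ h • o from Finset.smul_mem_smul_finset hn), Finset.card_smul_finset,
    ho.2] at h7
  omega

/-- No transitive subgroup of order 967680 or 322560. -/
theorem trans_false (hH : H ≤ M24) (htr : ∀ p : GolayPt, ∃ h ∈ H, h none = p)
    (hc : Nat.card H = 967680 ∨ Nat.card H = 322560) : False := by
  classical
  haveI : Fact (Nat.Prime 7) := ⟨by norm_num⟩
  have hL := card_stab_none htr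
  have h5 : 5 ∣ Nat.card H := by rcases hc with e | e <;> rw [e] <;> norm_num
  rcases m23_invariant _ (stab_none_le hH) (by omega) with ⟨s, hs, hns, hs'⟩ | ⟨o, ho, hno, ho'⟩
  · have h3 : (insert none s).card = 3 := by rw [Finset.card_insert_of_notMem hns, hs]
    refine no_blocks hH h5 htr (Finset.mem_insert_self none s) (by rw [h3])
      (small_block hH (q := 7) (Or.inr ⟨rfl, h3⟩) ?_ (Finset.mem_insert_self none s) fun g hg => ?_)
    · omega
    · rw [Finset.smul_finset_insert, hs' g hg, show g • (none : GolayPt) = none from mem_stabilizer_iff.mp hg.2]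
  · exact no_blocks hH h5 htr hno (by rw [ho.2]) (octad_block hH (by omega) ho hno ho')

theorem card_le_octad {o : Finset GolayPt} (ho : o ∈ octads) (hH : H ≤ M24) (h : ∀ g ∈ H, g • o = o) :
    Nat.card H ∣ 322560 :=
  card_setStab_octad ho ▸ Subgroup.card_dvd_of_le (fun g hg => ⟨hH hg, mem_stabilizer_iff.mpr (h g hg)⟩)

/-- No subgroup of index 253. -/
theorem sub_253 (hH : H ≤ M24) : Nat.card H ≠ 967680 := by
  intro hc
  rcases trans_or_octad hH (by rw [hc]; norm_num) with htr | ⟨o, ho, ho'⟩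
  · exact trans_false hH htr (Or.inl hc)
  · have h := card_le_octad ho hH ho'
    rw [hc] at h
    norm_num at h

/-- Subgroups of index 759. -/
theorem sub_759 (hH : H ≤ M24) (hc : Nat.card H = 322560) : ∃ o ∈ octads, H = setStab o := by
  rcases trans_or_octad hH (by rw [hc]; norm_num) with htr | ⟨o, ho, ho'⟩
  · exact (trans_false hH htr (Or.inr hc)).elim
  · exact ⟨o, ho, Subgroup.eq_of_le_of_card_ge (fun g hg => ⟨hH hg, mem_stabilizer_iff.mpr (ho' g hg)⟩)
      (by rw [hc, card_setStab_octad ho])⟩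

/-- Sets of at most five points form one orbit each. -/
theorem ksets_stab {A : Finset GolayPt} {k : ℕ} (hk : A.card = k) (h5 : k ≤ 5) :
    Nat.card ↥(setStab A) * Nat.choose 24 k = Nat.card M24 := by
  classical
  have horb : orbit M24 A = ↑(Finset.powersetCard k (Finset.univ : Finset GolayPt)) := by
    ext B
    simp only [Finset.mem_coe, Finset.mem_powersetCard, Finset.subset_univ, true_and]
    constructor
    · rintro ⟨g, rfl⟩
      show ((g : Equiv.Perm GolayPt) • A).card = k
      rw [Finset.card_smul_finset, hk]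
    · intro hB
      let e : ∀ C : Finset GolayPt, C.card = k → Fin k ↪ GolayPt := fun C hC =>
        (C.equivFinOfCardEq hC).symm.toEmbedding.trans (Function.Embedding.subtype _)
      obtain ⟨g, hg⟩ := (le_five k h5).exists_smul_eq (e A hk) (e B hB)
      refine ⟨g, Finset.eq_of_subset_of_card_le ?_ (by
        show B.card ≤ ((g : Equiv.Perm GolayPt) • A).card
        rw [Finset.card_smul_finset, hB, hk])⟩
      intro p hp
      obtain ⟨a, ha, rfl⟩ := Finset.mem_smul_finset.mp hp
      have h1 : g • (e A hk (A.equivFinOfCardEq hk ⟨a, ha⟩)) = e B hB (A.equivFinOfCardEq hk ⟨a, ha⟩) :=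
        congrArg (fun f : Fin k ↪ GolayPt => f (A.equivFinOfCardEq hk ⟨a, ha⟩)) hg
      have h2 : e A hk (A.equivFinOfCardEq hk ⟨a, ha⟩) = a := by simp [e]
      rw [h2] at h1
      rw [h1]
      exact ((B.equivFinOfCardEq hB).symm _).2
  have h := card_subgroup_inter M24 A
  rw [horb, Set.ncard_coe_finset, Finset.card_powersetCard, Finset.card_univ, card_golayPt] at h
  exact h

/-- No subgroup of order 36960 fixes two points. -/
theorem no_pair_36960 {K : Subgroup (Equiv.Perm GolayPt)} (hK : K ≤ Spor.M22) : Nat.card K ≠ 36960 := by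
  intro hc
  classical
  haveI : Fact (Nat.Prime 7) := ⟨by norm_num⟩
  let L : Subgroup Spor.M22 := K.subgroupOf Spor.M22
  have hLc : Nat.card L = 36960 := (Nat.card_congr (Subgroup.subgroupOfEquivOfLe hK).toEquiv).trans hc
  obtain ⟨b, hb⟩ := exists_prime_orderOf_dvd_card' (G := L) 7 (by rw [hLc]; norm_num)
  have hb' : orderOf (b : Spor.M22) = 7 := by rw [Subgroup.orderOf_coe]; exact hb
  obtain ⟨h1, h2, h3⟩ := MTwentyTwo.normalizer_facts hb' (by rw [card_M22]; norm_num)
  have h4 := MTwentyTwo.normalizer_bound (q := 7) (Or.inr (Or.inl rfl)) hb'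
  rw [card_M22] at h1
  have hN : Nat.card (Subgroup.normalizer (Subgroup.zpowers (b : Spor.M22) : Set Spor.M22)) = 21 := by
    generalize Nat.card (Subgroup.normalizer (Subgroup.zpowers (b : Spor.M22) : Set Spor.M22)) = n at h1 h3 h4 ⊢
    generalize (Subgroup.normalizer (Subgroup.zpowers (b : Spor.M22) : Set Spor.M22)).index = m at h1 h2
    obtain ⟨k, rfl⟩ := h3
    have h5 : k ∣ 6 := Nat.dvd_of_mul_dvd_mul_left (by norm_num : 0 < 7) (by simpa using h4)
    have h6 : k ≤ 6 := Nat.le_of_dvd (by norm_num) h5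
    interval_cases k <;> omega
  obtain ⟨g1, g2, g3⟩ := MTwentyTwo.normalizer_facts hb (by rw [hLc]; norm_num)
  set N' := Subgroup.normalizer (Subgroup.zpowers b : Set L)
  have hle : N'.map L.subtype ≤ Subgroup.normalizer (Subgroup.zpowers (b : Spor.M22) : Set Spor.M22) := by
    refine (Subgroup.le_normalizer_map L.subtype).trans (le_of_eq ?_)
    rw [MonoidHom.map_zpowers]
    rfl
  have g4 := Subgroup.card_dvd_of_le hle
  rw [hN, Subgroup.card_map_of_injective L.subtype_injective] at g4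
  rw [hLc] at g1
  generalize Nat.card N' = n at g1 g3 g4
  generalize N'.index = m at g1 g2
  have h6 : n ≤ 21 := Nat.le_of_dvd (by norm_num) g4
  obtain ⟨k, rfl⟩ := g3
  have h7 : k ≤ 3 := by omega
  interval_cases k <;> omega

theorem orbit_sizes (n : ℕ) (hn : n ≤ 24) (h0 : n ≠ 0) :
    ((n ∣ 887040 ∧ n % 7 ≤ 3 ∧ n % 11 ≤ 2) → n = 1 ∨ n = 2 ∨ n = 22 ∨ n = 24) ∧
      ((n ∣ 36960 ∧ n % 7 ≤ 2 ∧ n % 11 ≤ 1 ∧ n ≤ 23) → n = 1 ∨ n = 22) := by
  interval_cases n <;> norm_num at *

/-- Subgroups of index 276. -/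
theorem sub_276 (hH : H ≤ M24) (hc : Nat.card H = 887040) : ∃ s : Finset GolayPt, s.card = 2 ∧ H = setStab s := by
  classical
  haveI : Fact (Nat.Prime 7) := ⟨by norm_num⟩
  haveI : Fact (Nat.Prime 11) := ⟨by norm_num⟩
  have hfin : ∀ s : Finset GolayPt, s.card = 2 → (∀ g ∈ H, g • s = s) →
      ∃ s : Finset GolayPt, s.card = 2 ∧ H = setStab s := by
    intro s hs hinv
    refine ⟨s, hs, Subgroup.eq_of_le_of_card_ge (fun g hg => ⟨hH hg, mem_stabilizer_iff.mpr (hinv g hg)⟩) ?_⟩
    have h := ksets_stab hs (by norm_num)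
    rw [show Nat.choose 24 2 = 276 by decide, card_M24] at h
    omega
  let A := orb H none
  have hA : ∀ g ∈ H, g • A = A := fun g hg => smul_orb hg none
  have hmod : ∀ q f : ℕ, (q = 7 ∧ f = 3) ∨ (q = 11 ∧ f = 2) → A.card % q ≤ f := by
    intro q f h
    haveI : Fact q.Prime := ⟨by rcases h with e | e <;> rw [e.1] <;> norm_num⟩
    obtain ⟨⟨x, hxH⟩, hx⟩ := exists_prime_orderOf_dvd_card' (G := H) q
      (by rw [hc]; rcases h with e | e <;> rw [e.1] <;> norm_num)
    rw [← Subgroup.orderOf_coe] at hx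
    exact (mod_le_inter hx (hA x hxH)).trans ((Finset.card_le_card Finset.inter_subset_right).trans
      (card_fixed (hH hxH) hx (by tauto)).le)
  have hle : A.card ≤ 24 := card_golayPt ▸ Finset.card_le_univ A
  have hself : none ∈ A := self_mem_orb H none
  rcases (orbit_sizes A.card hle (Finset.card_ne_zero_of_mem hself)).1
      ⟨hc ▸ card_orb_dvd H none, hmod 7 3 (Or.inl ⟨rfl, rfl⟩), hmod 11 2 (Or.inr ⟨rfl, rfl⟩)⟩ with e | e | e | e
  · exfalso
    obtain ⟨a, ha⟩ := Finset.card_eq_one.mp e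
    have hle' : H ≤ Spor.M23 := fun g hg => ⟨hH hg, mem_stabilizer_iff.mpr (by
      have h1 : g none ∈ A := mem_orb.mpr ⟨g, hg, rfl⟩
      have h2 : (none : GolayPt) ∈ A := hself
      rw [ha, Finset.mem_singleton] at h1 h2
      exact h1.trans h2.symm)⟩
    have h := Subgroup.card_dvd_of_le hle'
    rw [hc, card_M23] at h
    norm_num at h
  · exact hfin A e hA
  · exact hfin Aᶜ (by rw [Finset.card_compl, card_golayPt, e]) fun g hg => smul_eq_of_mem_imp fun r hr =>
      Finset.mem_compl.mpr fun hr' => Finset.mem_compl.mp hr ((mem_iff_of_smul_eq (hA g hg) r).mp hr')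
  exfalso
  have huniv : A = Finset.univ := Finset.eq_univ_of_card A (e.trans card_golayPt.symm)
  have htr : ∀ p : GolayPt, ∃ h ∈ H, h none = p := fun p => mem_orb.mp (huniv ▸ Finset.mem_univ p : p ∈ A)
  set L := H ⊓ stabilizer (Equiv.Perm GolayPt) (none : GolayPt) with hLdef
  have hLc : Nat.card L = 36960 := by
    have h := card_stab_none htr
    rw [← hLdef, hc] at h
    omega
  have hfix : ∀ g ∈ L, g none = none := fun g hg => mem_stabilizer_iff.mp hg.2
  let B := orb L (some 0)
  have hnB : none ∉ B := fun h => by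
    obtain ⟨g, hg, e⟩ := mem_orb.mp h
    exact absurd (g.injective (e.trans (hfix g hg).symm)) (by simp)
  have hmodB : ∀ q f : ℕ, (q = 7 ∧ f = 3) ∨ (q = 11 ∧ f = 2) → B.card % q ≤ f - 1 := by
    intro q f h
    haveI : Fact q.Prime := ⟨by rcases h with e | e <;> rw [e.1] <;> norm_num⟩
    obtain ⟨⟨x, hxL⟩, hx⟩ := exists_prime_orderOf_dvd_card' (G := L) q
      (by rw [hLc]; rcases h with e | e <;> rw [e.1] <;> norm_num)
    rw [← Subgroup.orderOf_coe] at hx
    change orderOf x = q at hx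
    refine (mod_le_inter hx (smul_orb hxL _)).trans ?_
    have hsub : B ∩ fixed x ⊆ (fixed x).erase none := fun r hr => by
      rw [Finset.mem_inter] at hr
      exact Finset.mem_erase.mpr ⟨fun e => hnB (e ▸ hr.1), hr.2⟩
    have h4 := Finset.card_le_card hsub
    rwa [Finset.card_erase_of_mem (mem_fixed.mpr (hfix x hxL)), card_fixed (hH hxL.1) hx (f := f) (by tauto)] at h4
  have hB23 : B.card ≤ 23 := by
    have h := Finset.card_le_card (show B ⊆ Finset.univ.erase none from fun r hr =>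
      Finset.mem_erase.mpr ⟨fun e => hnB (e ▸ hr), Finset.mem_univ r⟩)
    rwa [Finset.card_erase_of_mem (Finset.mem_univ _), Finset.card_univ, card_golayPt] at h
  obtain ⟨y, hy, hyL⟩ : ∃ y : GolayPt, y ≠ none ∧ ∀ g ∈ L, g y = y := by
    have one : ∀ C : Finset GolayPt, C.card = 1 → none ∉ C → (∀ g ∈ L, g • C = C) →
        ∃ y : GolayPt, y ≠ none ∧ ∀ g ∈ L, g y = y := by
      intro C hC hn hinv
      obtain ⟨y, hy⟩ := Finset.card_eq_one.mp hC
      refine ⟨y, fun e => hn (by rw [hy, e]; exact Finset.mem_singleton_self none), fun g hg => ?_⟩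
      have := (mem_iff_of_smul_eq (hinv g hg) y).mpr (hy ▸ Finset.mem_singleton_self y)
      rwa [hy, Finset.mem_singleton] at this
    rcases (orbit_sizes B.card (by omega) (Finset.card_ne_zero_of_mem (self_mem_orb L _))).2
        ⟨hLc ▸ card_orb_dvd L (some 0), hmodB 7 3 (Or.inl ⟨rfl, rfl⟩), hmodB 11 2 (Or.inr ⟨rfl, rfl⟩), hB23⟩ with
      e1 | e1
    · exact one B e1 hnB fun g hg => smul_orb hg _
    · refine one (Bᶜ.erase none) ?_ (fun h => (Finset.mem_erase.mp h).1 rfl) fun g hg => ?_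
      · rw [Finset.card_erase_of_mem (Finset.mem_compl.mpr hnB), Finset.card_compl, card_golayPt, e1]
      · refine smul_eq_of_mem_imp fun r hr => ?_
        rw [Finset.mem_erase, Finset.mem_compl] at hr ⊢
        exact ⟨fun e => hr.1 (g.injective (e.trans (hfix g hg).symm)),
          fun hr' => hr.2 ((mem_iff_of_smul_eq (smul_orb hg _) r).mp hr')⟩
  obtain ⟨g, hg, hg'⟩ := exists_smul_eq_pair hy.symm (p' := none) (q' := some 0) (by simp)
  change (g : Equiv.Perm GolayPt) none = none at hg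
  change (g : Equiv.Perm GolayPt) y = some 0 at hg'
  refine no_pair_36960 (K := cj (g : Equiv.Perm GolayPt)⁻¹ L) (fun x hx => ?_) ((card_cj _ _).trans hLc)
  have hx1 := mem_cj.mp hx
  rw [inv_inv] at hx1
  have hconj : ∀ a b, (g : Equiv.Perm GolayPt) a = b → (∀ l ∈ L, l a = a) → x b = b := by
    intro a b hab hl
    have h1 := hl _ hx1
    rw [Equiv.Perm.mul_apply, Equiv.Perm.mul_apply, hab, Equiv.Perm.inv_eq_iff_eq, hab] at h1
    first | exact h1 | exact h1.symm
  have hxM : x ∈ M24 := by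
    have := M24.mul_mem (M24.mul_mem g.2 (hH hx1.1)) (M24.inv_mem g.2)
    simpa [mul_assoc] using this
  exact ⟨⟨hxM, mem_stabilizer_iff.mpr (hconj none none hg hfix)⟩, mem_stabilizer_iff.mpr (hconj y _ hg' hyL)⟩

end Cfsg.Lib.Classical.MLowIndex
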