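import Cfsg.Agent.Classical.MLowIndex.M24Index
import Cfsg.Agent.Classical.MLowIndex.Data
import Cfsg.Agent.Golay.StdObjects
import Cfsg.Agent.Golay.Sextets

/-! Subgroups of index 1771 of the group of the code. -/

set_option autoImplicit false
set_option maxRecDepth 100000
set_option linter.style.haveILetI false

namespace Cfsg.Lib.Classical.MLowIndex

open Cfsg Cfsg.Lib.PermCert Cfsg.Lib.Golay MulAction
open scoped Pointwise

/-- The large class alone. -/
def clsA : Fin 4 → Bool := ![true, false, false, false]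
/-- With the class of two. -/
def clsB : Fin 4 → Bool := ![true, true, false, false]
/-- With the class of four. -/
def clsC : Fin 4 → Bool := ![true, false, true, false]
/-- The classes of two and four. -/
def clsE : Fin 4 → Bool := ![false, true, true, false]

theorem union_sextet : ∀ b : Fin 4 → Bool, b 0 = true → (unionCls b).card ∣ 5760 →
    b = clsA ∨ b = clsB ∨ b = clsC := by decide +kernel

/-- The octad outside the large class. -/
def oSix : Finset GolayPt := (unionCls clsA)ᶜ

/-- The standard tetrad. -/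
def tet : Finset GolayPt := (unionCls clsC)ᶜ

theorem union_inner : ∀ b : Fin 4 → Bool, b 1 = true → unionCls b ⊆ oSix.erase none → (unionCls b).card ∣ 5760 →
    (unionCls b).card = 2 ∨ (unionCls b).card = 3 ∨ b = clsE := by decide +kernel

theorem oSix_ok : inCode (mk oSix) = true ∧ oSix.card = 8 ∧ none ∈ oSix ∧ ptAt 15 ∈ oSix ∧
    (∀ p ∈ oSix, p = none ∨ p = ptAt 15 ∨ p ∈ unionCls clsE) ∧ (unionCls clsE).card = 6 ∧
    unionCls clsE ⊆ oSix ∧ none ∉ unionCls clsE ∧ ptAt 15 ∉ unionCls clsE ∧ ptAt 6 ∈ unionCls clsE ∧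
    ((unionCls clsB)ᶜ.erase none).card = 5 ∧ (unionCls clsB)ᶜ.erase none ⊆ oSix ∧
    ptAt 0 ∉ oSix ∧ ptAt 6 ∈ unionCls clsB ∧ ptAt 6 ∈ oSix ∧ (unionCls clsA).card = 16 ∧
    ptAt 15 ≠ none := by decide +kernel

/-- The candidates for the other points of a block. -/
def cand : List ℕ := (List.range 23).filter fun i => !([0, 6, 15, 18].contains i)

/-- The generators available. -/
def sepGens : List PP := topGens FusionCert.certM23.chain ++ [tetFive]

/-- The words separate all candidates. -/
def sepOK : Bool :=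
  (cand.sublistsLen 3).all fun l => l == [7, 10, 12] || sepWords.any fun w =>
    evalWord (w.map fun k => sepGens.getD k tetFive) 0 == 0 &&
      l.any fun i => !((0 :: l).contains (evalWord (w.map fun k => sepGens.getD k tetFive) i))

theorem sep_ok : sepOK = true := by decide +kernel

/-- The block of the first point. -/
def blockZero : Finset GolayPt := ([0, 7, 10, 12].map ptAt).toFinset

theorem tet_ok : tet.card = 4 ∧ none ∈ tet ∧ ptAt 0 ∉ tet ∧ preserves tetFive = true ∧ valid 24 tetFive = true ∧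
    (∀ i : Fin 24, ptAt i.val ∈ tet → ap tetFive.1 i.val = i.val) ∧
    (∀ i : Fin 24, pidx (ptAt i.val) = i.val) ∧
    (∀ i : Fin 24, ptAt i.val ∉ tet → i.val = 0 ∨ i.val ∈ cand) ∧ (∀ i ∈ cand, i < 24 ∧ i ≠ 0) ∧
    inCode (mk (tet ∪ blockZero)) = true ∧ (tet ∪ blockZero).card = 8 := by decide +kernel

/-- A word moves points as its tables do. -/
theorem word_apply {H : Subgroup (Equiv.Perm GolayPt)} : ∀ w : List PP, (∀ s ∈ w, valid 24 s = true) →
    (∀ s ∈ w, toP s ∈ H) → ∃ g ∈ H, ∀ i < 24, evalWord w i < 24 ∧ g (ptAt i) = ptAt (evalWord w i)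
  | [], _, _ => ⟨1, H.one_mem, fun i hi => ⟨hi, rfl⟩⟩
  | s :: w, hv, hH => by
    rw [List.forall_mem_cons] at hv hH
    obtain ⟨g, hg, hgi⟩ := word_apply w hv.2 hH.2
    refine ⟨toP s * g, H.mul_mem hH.1 hg, fun i hi => ?_⟩
    obtain ⟨h1, h2⟩ := hgi i hi
    exact ⟨valid_lt hv.1 h1, by rw [Equiv.Perm.mul_apply, h2, toP_ptAt hv.1 h1]; rfl⟩

variable {H : Subgroup (Equiv.Perm GolayPt)}

/-- A bound from an invariant subset of an octad. -/
theorem card_le_split {L : Subgroup (Equiv.Perm GolayPt)} (hL : L ≤ Spor.M23) {o A : Finset GolayPt} (ho : o ∈ octads)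
    (hn : none ∈ o) (hA : A ⊆ o.erase none) (hoL : ∀ g ∈ L, g • o = o) (hAL : ∀ g ∈ L, g • A = A) :
    Nat.card L ≤ 16 * (Nat.factorial A.card * Nat.factorial (7 - A.card)) := by
  classical
  have hA' : ∀ g ∈ L, g • (o.erase none \ A) = o.erase none \ A := fun g hg => by
    rw [Finset.smul_finset_sdiff, hAL g hg, Finset.erase_eq, Finset.smul_finset_sdiff, hoL g hg,
      Finset.smul_finset_singleton]
    show (o \ {g none}) \ A = _
    rw [fix_none hL hg]
  let φ := (restrictHom A L hAL).prod (restrictHom (o.erase none \ A) L hA')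
  have hker : Nat.card φ.ker ≤ 16 := by
    rw [← (card_fix_six ho (Finset.Subset.refl o) (by rw [ho.2]; norm_num)).1]
    refine Nat.card_le_card_of_injective (fun g => ⟨((g : L) : Equiv.Perm GolayPt), (hL (g : L).2).1, ?_⟩) ?_
    · refine (mem_fixingSubgroup_iff _).mpr fun p hp => ?_
      obtain ⟨h1, h2⟩ := Prod.mk.inj (MonoidHom.mem_ker.mp g.2 : φ (g : L) = 1)
      rcases eq_or_ne p none with rfl | hne
      · exact fix_none hL (g : L).2
      by_cases hpA : p ∈ A
      · exact congrArg (fun e : Equiv.Perm A => ((e ⟨p, hpA⟩ : A) : GolayPt)) h1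
      · exact congrArg (fun e : Equiv.Perm ↥(o.erase none \ A) => ((e ⟨p, Finset.mem_sdiff.mpr
          ⟨Finset.mem_erase.mpr ⟨hne, hp⟩, hpA⟩⟩ : ↥(o.erase none \ A)) : GolayPt)) h2
    · intro a b h
      exact Subtype.ext (Subtype.ext (congrArg Subtype.val h :))
  have hrange : Nat.card φ.range ≤ Nat.factorial A.card * Nat.factorial (7 - A.card) := by
    refine (Subgroup.card_le_card_group φ.range).trans (le_of_eq ?_)
    rw [Nat.card_prod, Nat.card_perm, Nat.card_perm, Nat.card_eq_fintype_card, Nat.card_eq_fintype_card,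
      Fintype.card_coe, Fintype.card_coe, Finset.card_sdiff_of_subset hA, Finset.card_erase_of_mem hn, ho.2]
  rw [Subgroup.card_eq_card_quotient_mul_card_subgroup φ.ker, mul_comm,
    Nat.card_congr (QuotientGroup.quotientKerEquivRange φ).toEquiv]
  exact Nat.mul_le_mul hker hrange

theorem octad_five {o : Finset GolayPt} (ho : o ∈ octads) {o' : Finset GolayPt} (ho' : o' ∈ octads) {F : Finset GolayPt}
    (hF : F.card = 5) (h : F ⊆ o) (h' : F ⊆ o') : o = o' := by
  let x : Fin 5 ↪ GolayPt := (F.equivFinOfCardEq hF).symm.toEmbedding.trans (Function.Embedding.subtype _)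
  have hx : ∀ i, x i ∈ F := fun i => ((F.equivFinOfCardEq hF).symm i).2
  have e1 := octThrough_unique ho (x := x) fun i => h (hx i)
  have e2 := octThrough_unique ho' (x := x) fun i => h' (hx i)
  first | exact e1.trans e2.symm | exact e1.symm.trans e2

/-- The orbit of the large class is not its union with the class of two. -/
theorem not_eighteen {L : Subgroup (Equiv.Perm GolayPt)} (hL : L ≤ Spor.M23)
    (hO : orb L (ptAt 0) = unionCls clsB) : False := by
  obtain ⟨hc1, hc2, hn, -, -, -, -, -, -, -, h5, hsub, h0, h6, h6', -⟩ := oSix_ok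
  have ho : oSix ∈ octads := (mem_octads_iff _).mpr ⟨hc1, hc2⟩
  obtain ⟨g, hg, hge⟩ := mem_orb.mp (hO ▸ h6 : ptAt 6 ∈ orb L (ptAt 0))
  have hinv : g • oSix = oSix := by
    refine octad_five (smul_mem_octads (hL hg).1 ho) ho h5 ?_ hsub
    intro p hp
    have hp' : g⁻¹ p ∈ (unionCls clsB)ᶜ.erase none := by
      rw [Finset.mem_erase, Finset.mem_compl, ← hO] at hp ⊢
      refine ⟨fun e => hp.1 ?_, fun h => hp.2 (orb_mem_of_mem h hg (by simp))⟩
      rw [Equiv.Perm.inv_eq_iff_eq] at e
      exact e.trans (fix_none hL hg)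
    rw [← Finset.inv_smul_mem_iff]
    exact hsub hp'
  exact h0 ((mem_iff_of_smul_eq hinv (ptAt 0)).mp (hge ▸ h6'))

/-- The orbit of the large class is not the large class alone. -/
theorem not_sixteen (hH : H ≤ M24) (htr : ∀ p : GolayPt, ∃ h ∈ H, h none = p)
    (hc : Nat.card ↥(H ⊓ stabilizer (Equiv.Perm GolayPt) (none : GolayPt)) = 5760)
    (hsL : ∀ s ∈ topGens FusionCert.certM23.chain, toP s ∈ H ⊓ stabilizer (Equiv.Perm GolayPt) (none : GolayPt))
    (hO : orb (H ⊓ stabilizer (Equiv.Perm GolayPt) (none : GolayPt)) (ptAt 0) = unionCls clsA) : False := by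
  classical
  haveI : Fact (Nat.Prime 5) := ⟨by norm_num⟩
  set L := H ⊓ stabilizer (Equiv.Perm GolayPt) (none : GolayPt) with hLdef
  have hL : L ≤ Spor.M23 := stab_none_le hH
  obtain ⟨hc1, hc2, hn, hy, hsplit, hE6, hEo, hnE, hyE, h6E, -, -, -, -, -, hA16, hyne⟩ := oSix_ok
  have ho : oSix ∈ octads := (mem_octads_iff _).mpr ⟨hc1, hc2⟩
  have hoL : ∀ g ∈ L, g • oSix = oSix := fun g hg => smul_eq_of_mem_imp fun r hr =>
    Finset.mem_compl.mpr fun hr' => by
      have h1 := smul_orb hg (ptAt 0) (H := L)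
      rw [hO] at h1
      exact Finset.mem_compl.mp hr ((mem_iff_of_smul_eq h1 r).mp hr')
  have hfix : ∀ g ∈ L, g none = none := fun g hg => fix_none hL hg
  have hinner : ∀ g ∈ L, g • oSix.erase none = oSix.erase none := fun g hg => by
    rw [Finset.erase_eq, Finset.smul_finset_sdiff, hoL g hg, Finset.smul_finset_singleton]
    show oSix \ {g none} = _
    rw [hfix g hg]
  obtain ⟨b, hb, hb'⟩ := orb_union hL hsL 1
  have hEL : orb L (ptAt 6) = unionCls clsE := by
    have hsub : orb L (ptAt (repIdx 1)) ⊆ oSix.erase none := orb_subset hinner (by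
      show ptAt 6 ∈ _
      exact Finset.mem_erase.mpr ⟨fun e => hnE (e ▸ h6E), hEo h6E⟩)
    have hd := card_orb_dvd L (ptAt (repIdx 1))
    rw [hb'] at hsub hd
    rw [hc] at hd
    have hbound := card_le_split hL ho hn hsub hoL fun g hg => hb' ▸ smul_orb hg _
    rw [hc] at hbound
    rcases union_inner b hb hsub hd with e | e | e
    · rw [e] at hbound; norm_num [Nat.factorial] at hbound
    · rw [e] at hbound; norm_num [Nat.factorial] at hbound
    · exact e ▸ hb'
  have hyL : ∀ g ∈ L, g (ptAt 15) = ptAt 15 := by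
    intro g hg
    rcases hsplit _ ((mem_iff_of_smul_eq (hoL g hg) _).mpr hy) with e | e | e
    · exact absurd (g.injective (e.trans (hfix g hg).symm)) hyne
    · exact e
    · rw [← hEL] at e
      have h := (mem_iff_of_smul_eq (smul_orb hg (ptAt 6)) (ptAt 15)).mp e
      exact absurd (hEL ▸ h) hyE
  have honly : ∀ p, (∀ g ∈ L, g p = p) → p = none ∨ p = ptAt 15 := by
    intro p hp
    have key : ∀ q, p ∈ orb L q → (orb L q).card ≤ 1 := by
      intro q hq
      obtain ⟨g, hg, e⟩ := mem_orb.mp hq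
      have hqp : q = p := g.injective (e.trans (hp g hg).symm)
      subst hqp
      refine Finset.card_le_one.mpr fun a ha a' ha' => ?_
      obtain ⟨k, hk, rfl⟩ := mem_orb.mp ha
      obtain ⟨k', hk', rfl⟩ := mem_orb.mp ha'
      rw [hp k hk, hp k' hk']
    by_cases hpo : p ∈ oSix
    · rcases hsplit p hpo with e | e | e
      · exact Or.inl e
      · exact Or.inr e
      · have h1 := key (ptAt 6) (hEL ▸ e)
        rw [hEL, hE6] at h1
        omega
    · have h1 := key (ptAt 0) (by rw [hO]; simpa [oSix] using hpo)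
      rw [hO, hA16] at h1
      omega
  have hblk : ∀ h ∈ H, h none ∈ ({none, ptAt 15} : Finset GolayPt) → h • ({none, ptAt 15} : Finset GolayPt) =
      {none, ptAt 15} := by
    intro h hh hmem
    rw [Finset.mem_insert, Finset.mem_singleton] at hmem
    rw [Finset.smul_finset_insert, Finset.smul_finset_singleton]
    show ({h none, h (ptAt 15)} : Finset GolayPt) = _
    rcases hmem with e | e
    · rw [e, hyL h ⟨hh, mem_stabilizer_iff.mpr e⟩]
    · have hfixhy : ∀ g ∈ L, g (h (ptAt 15)) = h (ptAt 15) := fun g hg => by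
        have h1 := hyL (h⁻¹ * g * h) ⟨H.mul_mem (H.mul_mem (H.inv_mem hh) hg.1) hh, mem_stabilizer_iff.mpr (by
          show (h⁻¹ * g * h) none = none
          rw [Equiv.Perm.mul_apply, Equiv.Perm.mul_apply, e, hyL g hg, Equiv.Perm.inv_eq_iff_eq, e])⟩
        rw [Equiv.Perm.mul_apply, Equiv.Perm.mul_apply, Equiv.Perm.inv_eq_iff_eq] at h1
        exact h1
      rcases honly _ hfixhy with e' | e'
      · rw [e, e', Finset.pair_comm]
      · exact absurd (h.injective (e'.trans e.symm)) hyne
  obtain ⟨h, hh, hz⟩ := htr (ptAt 6)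
  set z := ptAt 6
  set w := h (ptAt 15) with hw
  have hzw : z ≠ w := fun e => hyne (h.injective (hz.trans e)).symm
  have hwB : w ∉ ({none, ptAt 15} : Finset GolayPt) := fun hm => by
    have h1 := block_eq htr hblk hh H.one_mem (p := w) (Finset.smul_mem_smul_finset (by simp))
      (by rwa [one_smul])
    rw [one_smul] at h1
    have h2 : z ∈ ({none, ptAt 15} : Finset GolayPt) := by
      rw [← h1, ← hz]; exact Finset.smul_mem_smul_finset (by simp)
    rw [Finset.mem_insert, Finset.mem_singleton] at h2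
    rcases h2 with e | e
    · exact hnE (e ▸ h6E)
    · exact hyE (e ▸ h6E)
  set Lz := L ⊓ stabilizer (Equiv.Perm GolayPt) z with hLz
  have hLzc : Nat.card Lz = 960 := by
    have h1 := card_stab_mul_orb L z
    rw [← hLz, hEL, hE6, hc] at h1
    omega
  have hzfix : ∀ g ∈ Lz, g z = z := fun g hg => mem_stabilizer_iff.mp hg.2
  have hwfix : ∀ g ∈ Lz, g w = w := fun g hg => by
    have h1 := hyL (h⁻¹ * g * h) ⟨H.mul_mem (H.mul_mem (H.inv_mem hh) hg.1.1) hh, mem_stabilizer_iff.mpr (by
      show (h⁻¹ * g * h) none = none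
      rw [Equiv.Perm.mul_apply, Equiv.Perm.mul_apply, hz, hzfix g hg, Equiv.Perm.inv_eq_iff_eq, hz])⟩
    rw [Equiv.Perm.mul_apply, Equiv.Perm.mul_apply, Equiv.Perm.inv_eq_iff_eq] at h1
    exact h1
  by_cases hwo : w ∈ oSix
  · obtain ⟨⟨x, hxL⟩, hx⟩ := exists_prime_orderOf_dvd_card' (G := Lz) 5 (by rw [hLzc]; norm_num)
    rw [← Subgroup.orderOf_coe] at hx
    change orderOf x = 5 at hx
    have h1 := set_modEq hx (hoL x hxL.1)
    have h4 : (oSix ∩ fixed x).card ≤ 4 :=
      (Finset.card_le_card Finset.inter_subset_right).trans (card_fixed (hL hxL.1).1 hx (by omega)).le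
    have h3 : ({none, ptAt 15, z, w} : Finset GolayPt).card = 4 := by
      simp only [Finset.mem_insert, Finset.mem_singleton, not_or] at hwB
      rw [Finset.card_insert_of_notMem, Finset.card_insert_of_notMem, Finset.card_pair hzw]
      · simp only [Finset.mem_insert, Finset.mem_singleton, not_or]
        exact ⟨fun e => hyE (e ▸ h6E), Ne.symm hwB.2⟩
      · simp only [Finset.mem_insert, Finset.mem_singleton, not_or]
        exact ⟨hyne.symm, fun e => hnE (e ▸ h6E), Ne.symm hwB.1⟩
    have h5 : 4 ≤ (oSix ∩ fixed x).card := by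
      rw [← h3]
      refine Finset.card_le_card fun p hp => ?_
      simp only [Finset.mem_insert, Finset.mem_singleton] at hp
      rw [Finset.mem_inter, mem_fixed]
      rcases hp with rfl | rfl | rfl | rfl
      exacts [⟨hn, hfix x hxL.1⟩, ⟨hy, hyL x hxL.1⟩, ⟨hEo h6E, hzfix x hxL⟩, ⟨hwo, hwfix x hxL⟩]
    rw [hc2] at h1
    omega
  · have hinv : ∀ g ∈ Lz, g • (unionCls clsE).erase z = (unionCls clsE).erase z := fun g hg => by
      rw [Finset.erase_eq, Finset.smul_finset_sdiff, ← hEL, smul_orb hg.1, Finset.smul_finset_singleton]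
      show orb L z \ {g z} = _
      rw [hzfix g hg]
    have hinj := restrictHom_injective _ Lz hinv fun g hg hfg => by
      refine eq_one_of_six_one ho (Finset.Subset.refl oSix) (by rw [hc2]; norm_num) (hL hg.1).1 (fun p hp => ?_) hwo
        (hwfix g hg)
      rcases hsplit p hp with e | e | e
      · rw [e]; exact hfix g hg.1
      · rw [e]; exact hyL g hg.1
      · rcases eq_or_ne p z with rfl | hne
        · exact hzfix g hg
        · exact hfg p (Finset.mem_erase.mpr ⟨hne, e⟩)
    have h1 := Nat.card_le_card_of_injective _ hinj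
    rw [hLzc, Nat.card_perm, Nat.card_eq_fintype_card, Fintype.card_coe, Finset.card_erase_of_mem h6E, hE6] at h1
    norm_num [Nat.factorial] at h1

/-- The twenty case gives a sextet. -/
theorem twenty (hH : H ≤ M24) (hcard : Nat.card H = 138240) (htr : ∀ p : GolayPt, ∃ h ∈ H, h none = p)
    (hsL : ∀ s ∈ topGens FusionCert.certM23.chain, toP s ∈ H ⊓ stabilizer (Equiv.Perm GolayPt) (none : GolayPt))
    (hO : orb (H ⊓ stabilizer (Equiv.Perm GolayPt) (none : GolayPt)) (ptAt 0) = unionCls clsC) :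
    ∃ S ∈ sextets, ∀ g ∈ H, g • S = S := by
  classical
  haveI : Fact (Nat.Prime 5) := ⟨by norm_num⟩
  set L := H ⊓ stabilizer (Equiv.Perm GolayPt) (none : GolayPt) with hLdef
  obtain ⟨hT4, hnT, h0T, hpres, hval, hfix5, hidx, hcand, hcand', hu1, hu2⟩ := tet_ok
  have hLc : Nat.card L = 5760 := by
    have h := card_stab_none htr
    rw [← hLdef, hcard] at h
    omega
  have hTL : ∀ g ∈ L, g • tet = tet := fun g hg => smul_eq_of_mem_imp fun r hr =>
    Finset.mem_compl.mpr fun hr' => by
      have h1 := smul_orb hg (ptAt 0) (H := L)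
      rw [hO] at h1
      exact Finset.mem_compl.mp hr ((mem_iff_of_smul_eq h1 r).mp hr')
  have hblk : ∀ h ∈ H, h none ∈ tet → h • tet = tet :=
    small_block hH (q := 5) (Or.inl ⟨rfl, hT4⟩) (by rw [← hLdef, hLc]; norm_num) hnT hTL
  -- the stabiliser of the tetrad
  set HT := H ⊓ stabilizer (Equiv.Perm GolayPt) tet with hHT
  have hHTc : Nat.card HT = 23040 := by
    have h1 := card_stab_mul_orb HT none
    have e1 : HT ⊓ stabilizer (Equiv.Perm GolayPt) (none : GolayPt) = L :=
      le_antisymm (fun g hg => ⟨hg.1.1, hg.2⟩) fun g hg => ⟨⟨hg.1, mem_stabilizer_iff.mpr (hTL g hg)⟩, hg.2⟩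
    have e2 : orb HT none = tet := by
      refine Finset.Subset.antisymm (orb_subset (A := tet) (fun g (hg : g ∈ HT) => mem_stabilizer_iff.mp hg.2) hnT) fun p hp => ?_
      obtain ⟨h, hh, rfl⟩ := htr p
      exact mem_orb.mpr ⟨h, ⟨hh, mem_stabilizer_iff.mpr (hblk h hh hp)⟩, rfl⟩
    rw [e1, e2, hT4, hLc] at h1
    omega
  have hHTeq : HT = setStab tet := by
    refine Subgroup.eq_of_le_of_card_ge (fun g hg => ⟨hH hg.1, hg.2⟩) ?_
    have h := ksets_stab hT4 (by norm_num)
    rw [show Nat.choose 24 4 = 10626 by decide, card_M24] at h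
    omega
  have h5mem : toP tetFive ∈ H := by
    have h1 : toP tetFive ∈ setStab tet := by
      refine ⟨toP_mem_M24 hpres, mem_stabilizer_iff.mpr (smul_eq_of_mem_imp fun p hp => ?_)⟩
      have e : pidx p < 24 := (ptEquiv p).2
      have h2 : ptAt (pidx p) ∈ tet := by rw [M22Block.ptAt_pidx]; exact hp
      rw [M22Block.toP_fix hval (hfix5 ⟨pidx p, e⟩ h2)]
      exact hp
    exact (hHTeq ▸ h1 : toP tetFive ∈ HT).1
  have hgens : ∀ s ∈ sepGens, valid 24 s = true ∧ toP s ∈ H := by
    intro s hs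
    rcases List.mem_append.mp hs with hs | hs
    · have hok := sylM23_ok
      simp only [sylM23OK, Bool.and_eq_true, decide_eq_true_eq, List.all_eq_true] at hok
      exact ⟨(hok.2 s hs).1, (hsL s hs).1⟩
    · rw [List.mem_singleton.mp hs]; exact ⟨hval, h5mem⟩
  -- the block of the first point
  have hzero : ∀ k ∈ H, ptAt 0 ∈ k • tet → k • tet = blockZero := by
    intro k hk h0
    set B := k • tet with hB
    have hdis : ∀ p ∈ B, p ∉ tet := fun p hp hpT => h0T (by
      have h1 := block_eq htr hblk hk H.one_mem hp (by rwa [one_smul])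
      rw [one_smul] at h1
      rw [← h1]; exact h0)
    set l := cand.filter fun i => decide (ptAt i ∈ B) with hl
    have hlB : ∀ i, i ∈ 0 :: l → ptAt i ∈ B := fun i hi => by
      rcases List.mem_cons.mp hi with rfl | hi
      · exact h0
      · exact of_decide_eq_true (List.mem_filter.mp hi).2
    have hBl : ∀ p ∈ B, pidx p ∈ 0 :: l := by
      intro p hp
      have h1 : ptAt (pidx p) ∉ tet := by rw [M22Block.ptAt_pidx]; exact hdis p hp
      rcases hcand ⟨pidx p, (ptEquiv p).2⟩ h1 with e | e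
      · rw [show pidx p = 0 from e]; exact List.mem_cons_self
      · exact List.mem_cons_of_mem _ (List.mem_filter.mpr ⟨e, by
          rw [decide_eq_true_eq, M22Block.ptAt_pidx]; exact hp⟩)
    have hlen : l.length = 3 := by
      have e1 : (l.map ptAt).toFinset = B.erase (ptAt 0) := by
        ext p
        rw [List.mem_toFinset, List.mem_map, Finset.mem_erase]
        constructor
        · rintro ⟨i, hi, rfl⟩
          refine ⟨fun e => ?_, hlB i (List.mem_cons_of_mem _ hi)⟩
          obtain ⟨hi1, hi2⟩ := hcand' i (List.mem_filter.mp hi).1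
          have h := congrArg pidx e
          rw [hidx ⟨i, hi1⟩, hidx ⟨0, by norm_num⟩] at h
          exact hi2 h
        · rintro ⟨hne, hp⟩
          rcases List.mem_cons.mp (hBl p hp) with e | e
          · exact absurd (by rw [← e, M22Block.ptAt_pidx]) hne
          · exact ⟨_, e, M22Block.ptAt_pidx p⟩
      have e2 : (l.map ptAt).Nodup := by
        refine ((List.Nodup.filter _ (by decide : cand.Nodup))).map_on fun a ha a' ha' e => ?_
        have h := congrArg pidx e
        rwa [hidx ⟨a, (hcand' a (List.mem_filter.mp ha).1).1⟩, hidx ⟨a', (hcand' a' (List.mem_filter.mp ha').1).1⟩] at h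
      have e3 := List.toFinset_card_of_nodup e2
      rw [e1, Finset.card_erase_of_mem h0, hB, Finset.card_smul_finset, hT4, List.length_map] at e3
      omega
    have hsub : l ∈ cand.sublistsLen 3 := List.mem_sublistsLen.mpr ⟨List.filter_sublist, hlen⟩
    have hs := sep_ok
    simp only [sepOK, List.all_eq_true, Bool.or_eq_true, beq_iff_eq, List.any_eq_true, Bool.and_eq_true,
      Bool.not_eq_true'] at hs
    rcases hs l hsub with e | ⟨v, hv, hv0, i, hi, hout⟩
    · ext p
      rw [blockZero, List.mem_toFinset, List.mem_map]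
      constructor
      · intro hp
        exact ⟨_, e ▸ hBl p hp, M22Block.ptAt_pidx p⟩
      · rintro ⟨j, hj, rfl⟩
        exact hlB j (e.symm ▸ hj)
    · exfalso
      have hmem : ∀ s ∈ v.map (fun k => sepGens.getD k tetFive), s ∈ sepGens := by
        intro s hs'
        obtain ⟨j, -, rfl⟩ := List.mem_map.mp hs'
        by_cases hj : j < sepGens.length
        · rw [List.getD_eq_getElem _ _ hj]; exact List.getElem_mem _
        · rw [List.getD_eq_default _ _ (by omega)]; exact List.mem_append_right _ (List.mem_singleton_self _)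
      obtain ⟨g, hg, hgi⟩ := word_apply _ (fun s hs' => (hgens s (hmem s hs')).1)
        (fun s hs' => (hgens s (hmem s hs')).2)
      have hg0 : g (ptAt 0) = ptAt 0 := by rw [(hgi 0 (by norm_num)).2, hv0]
      have hgB : g • B = B := by
        rw [hB, ← mul_smul]
        refine block_eq htr hblk (H.mul_mem hg hk) hk (p := ptAt 0) ?_ h0
        rw [mul_smul, ← hg0]
        exact Finset.smul_mem_smul_finset h0
      have hi24 : i < 24 := (hcand' i (List.mem_filter.mp hi).1).1
      have h1 := (mem_iff_of_smul_eq hgB (ptAt i)).mpr (hlB i (List.mem_cons_of_mem _ hi))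
      rw [(hgi i hi24).2] at h1
      have h2 := hBl _ h1
      rw [hidx ⟨_, (hgi i hi24).1⟩] at h2
      rw [List.contains_eq_mem, decide_eq_false_iff_not] at hout
      exact hout h2
  have hpair : ∀ k ∈ H, k • tet ≠ tet → tet ∪ k • tet ∈ octads := by
    intro k hk hne
    obtain ⟨p, hp, hpT⟩ : ∃ p ∈ k • tet, p ∉ tet := by
      by_contra hcon
      push Not at hcon
      exact hne (Finset.eq_of_subset_of_card_le hcon (Finset.card_smul_finset k tet).ge)
    have hpO : p ∈ orb L (ptAt 0) := by rw [hO]; simpa [tet] using hpT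
    obtain ⟨g, hg, hge⟩ := mem_orb.mp hpO
    have h1 : (g⁻¹ * k) • tet = blockZero := hzero _ (H.mul_mem (H.inv_mem hg.1) hk) (by
      rw [mul_smul, Finset.mem_inv_smul_finset_iff]
      show g (ptAt 0) ∈ k • tet
      rw [hge]; exact hp)
    rw [mul_smul, inv_smul_eq_iff] at h1
    rw [h1, show tet ∪ g • blockZero = g • (tet ∪ blockZero) by rw [Finset.smul_finset_union, hTL g hg]]
    exact smul_mem_octads (hH hg.1) ((mem_octads_iff _).mpr ⟨hu1, hu2⟩)
  let F : Finset (Finset GolayPt) := (Set.toFinite (orbit H tet)).toFinset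
  have hF : ∀ t, t ∈ F ↔ ∃ h ∈ H, h • tet = t := fun t => by
    rw [Set.Finite.mem_toFinset, mem_orbit_iff]
    exact ⟨fun ⟨g, hg⟩ => ⟨g, g.2, hg⟩, fun ⟨g, hg, e⟩ => ⟨⟨g, hg⟩, e⟩⟩
  refine ⟨F, ⟨?_, fun t ht => ?_, fun t ht u hu hne => ?_⟩, fun g hg => ?_⟩
  · have h1 := card_subgroup_inter H tet
    rw [← hHT, hHTc, hcard, Set.ncard_eq_toFinset_card] at h1
    change 23040 * F.card = 138240 at h1
    omega
  · obtain ⟨h, -, rfl⟩ := (hF t).mp ht
    rw [Finset.card_smul_finset, hT4]
  · obtain ⟨h, hh, rfl⟩ := (hF t).mp ht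
    obtain ⟨k, hk, rfl⟩ := (hF u).mp hu
    have h1 := hpair (h⁻¹ * k) (H.mul_mem (H.inv_mem hh) hk) (fun e => hne (by
      rw [mul_smul, inv_smul_eq_iff] at e
      exact e.symm))
    have h2 := smul_mem_octads (hH hh) h1
    rwa [Finset.smul_finset_union, mul_smul, smul_inv_smul] at h2
  · refine Finset.eq_of_subset_of_card_le (fun t ht => ?_) (Finset.card_smul_finset g F).ge
    obtain ⟨u, hu, rfl⟩ := Finset.mem_smul_finset.mp ht
    obtain ⟨h, hh, rfl⟩ := (hF u).mp hu
    exact (hF _).mpr ⟨g * h, H.mul_mem hg hh, mul_smul _ _ _⟩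

/-- Subgroups of index 1771. -/
theorem sub_1771 (hH : H ≤ M24) (hcard : Nat.card H = 138240) :
    ∃ S ∈ sextets, H = M24 ⊓ stabilizer (Equiv.Perm GolayPt) S := by
  classical
  suffices h : ∃ S ∈ sextets, ∀ g ∈ H, g • S = S by
    obtain ⟨S, hS, hinv⟩ := h
    refine ⟨S, hS, Subgroup.eq_of_le_of_card_ge (fun g hg => ⟨hH hg, mem_stabilizer_iff.mpr (hinv g hg)⟩) ?_⟩
    have h1 := card_subgroup_inter M24 S
    rw [orbit_eq_iff.mpr (sextets_eq_orbit ▸ hS : S ∈ orbit M24 (famOf codeSext)), ← sextets_eq_orbit,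
      sextets_facts.2, card_M24] at h1
    omega
  rcases trans_or_octad hH (by rw [hcard]; norm_num) with htr | ⟨o, ho, ho'⟩
  swap
  · have h := card_le_octad ho hH ho'
    rw [hcard] at h
    norm_num at h
  have hLc : Nat.card ↥(H ⊓ stabilizer (Equiv.Perm GolayPt) (none : GolayPt)) = 5760 := by
    have h := card_stab_none htr
    omega
  obtain ⟨c, hcG, hgen⟩ := m23_syl (stab_none_le hH) (by rw [hLc]; norm_num)
  have hcn : c none = none := mem_stabilizer_iff.mp hcG.2
  set H' := cj c H with hH'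
  have hH'24 : H' ≤ M24 := cj_le hcG.1 hH
  have hc' : Nat.card H' = 138240 := (card_cj c H).trans hcard
  have htr' : ∀ p : GolayPt, ∃ h ∈ H', h none = p := fun p => by
    obtain ⟨h, hh, he⟩ := htr (c p)
    refine ⟨c⁻¹ * h * c, mem_cj.mpr (by simpa [mul_assoc] using hh), ?_⟩
    rw [Equiv.Perm.mul_apply, hcn, Equiv.Perm.mul_apply, he, Equiv.Perm.inv_def, Equiv.symm_apply_apply]
  set L' := H' ⊓ stabilizer (Equiv.Perm GolayPt) (none : GolayPt) with hL'
  have hsL : ∀ s ∈ topGens FusionCert.certM23.chain, toP s ∈ L' := fun s hs => by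
    obtain ⟨h1, h2⟩ := mem_cj.mp (hgen s hs)
    refine ⟨mem_cj.mpr h1, mem_stabilizer_iff.mpr ?_⟩
    show toP s none = none
    have h3 : c (toP s (c⁻¹ none)) = none := mem_stabilizer_iff.mp h2
    rw [show c⁻¹ none = none by rw [Equiv.Perm.inv_eq_iff_eq, hcn]] at h3
    exact c.injective (h3.trans hcn.symm)
  have hL'c : Nat.card L' = 5760 := by
    have h := card_stab_none htr'
    rw [← hL', hc'] at h
    omega
  suffices h : ∃ S ∈ sextets, ∀ g ∈ H', g • S = S by
    obtain ⟨S, hS, hinv⟩ := h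
    exact ⟨c • S, smul_mem_sextets hcG.1 hS, smul_cj hinv⟩
  obtain ⟨b, hb, hb'⟩ := orb_union (stab_none_le hH'24) hsL 0
  have hd := card_orb_dvd L' (ptAt (repIdx 0))
  rw [hb', hL'c] at hd
  rcases union_sextet b hb hd with e | e | e <;> rw [e] at hb'
  · exact (not_sixteen hH'24 htr' hL'c hsL hb').elim
  · exact (not_eighteen (stab_none_le hH'24) hb').elim
  · exact twenty hH'24 hc' htr' hsL hb'

end Cfsg.Lib.Classical.MLowIndex
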